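import Cfsg.Agent.CoOneType.Codes

/-!
The spin representation of `Sp(6, 2)` on codes.

The spin space is the exterior algebra of a space of dimension three: the bit `i < 4` is the subset
coded by `i`, the bit `i ≥ 4` the subset coded by `11 - i`. The six bits of the code `a` of a vector
are the coefficients of three vectors acting by wedge products and of three acting by contraction.
-/

set_option autoImplicit false

namespace Cfsg.Agent.CoTwoType

/-- The subset of a bit; the same map sends a subset to its bit. -/
def spinPos (i : ℕ) : ℕ := if i < 4 then i else 11 - i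

/-- The quadratic form on the codes of the six-dimensional space. -/
def q6 (a : ℕ) : Bool :=
  ((a.testBit 0 && a.testBit 3) != (a.testBit 1 && a.testBit 4)) != (a.testBit 2 && a.testBit 5)

/-- The image of the bit `i` under the Clifford operator of `a`. -/
def gamCol (a i : ℕ) : ℕ :=
  let s := spinPos i
  let part : ℕ → ℕ := fun j =>
    if (a.testBit j && !s.testBit j) || (a.testBit (j + 3) && s.testBit j)
    then 1 <<< spinPos (s ^^^ (1 <<< j)) else 0
  part 0 ^^^ part 1 ^^^ part 2

/-- The spin image of the transvection with centre `a`, on the bits. -/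
def tCol (a i : ℕ) : ℕ := gamCol a i ^^^ (if q6 a then 0 else 1 <<< i)

/-- The spin image of the transvection with centre `a`, on codes. -/
def tn (a v : ℕ) : ℕ :=
  let c : ℕ → ℕ := fun i => if v.testBit i then tCol a i else 0
  ((c 0 ^^^ c 1) ^^^ (c 2 ^^^ c 3)) ^^^ ((c 4 ^^^ c 5) ^^^ (c 6 ^^^ c 7))

end Cfsg.Agent.CoTwoType
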