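import Cfsg.Agent.CoOneWeak.Setting
import Cfsg.Agent.CoTwoType.Code

/-!
The centre-of-involution setting of the second Conway group: `O_2(C(z))` extraspecial of order `2^9`,
`C(z)` acting on it as `Sp(6, 2)` in the spin representation, `z` weakly closed in `O_2(C(z))`.
-/

set_option autoImplicit false

open Cfsg Cfsg.Agent.ThreeTrans.OrthCohom Cfsg.Agent.Classical.Quad QuadraticMap Cfsg.Agent.LargeExtra
open Cfsg.Agent.CoOneType

namespace Cfsg.Agent.CoTwoType

/-- The images of the sixty-three transvections. -/
def spinGens : Set O := {o | ∃ a : Fin 64, a.val ≠ 0 ∧ ∀ v : Fin 256, o.1 (dc v.val) = dc (tn a.val v.val)}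

/-- The spin image of `Sp(6, 2)`. -/
def sp6 : Subgroup O := Subgroup.closure spinGens

variable {G : Type*} [Group G] [Finite G]

/-- The data attached to the involution. -/
structure CoT (z : G) extends CoOneWeak.CoW z where
  act_mem : ∀ c, c * z = z * c → act c ∈ sp6
  act_surj : ∀ o ∈ sp6, ∃ c, c * z = z * c ∧ act c = o
  cent_card : Nat.card ↥(Subgroup.centralizer ({z} : Set G)) = 512 * 1451520

end Cfsg.Agent.CoTwoType
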