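import Cfsg.Agent.CoTwoType.Dichotomy
import Cfsg.Agent.CoTwoType.Setting

/-!
A representation of the transvections of `Sp(6, 2)` on an orthogonal space of dimension eight either
fixes a non-singular vector or is the spin representation.
-/

set_option autoImplicit false
set_option maxRecDepth 100000

open Cfsg Cfsg.Agent.ThreeTrans.OrthCohom Cfsg.Agent.Classical.Quad QuadraticMap Cfsg.Agent.CoOneType

namespace Cfsg.Agent.CoTwoType

/-- The standard frame. -/
abbrev a0 : Fin 3 → Fin 64 := ![8, 16, 32]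
/-- The standard frame. -/
abbrev b0 : Fin 3 → Fin 64 := ![1, 2, 4]

theorem frame0 : Frame a0 b0 := ⟨by decide +kernel, by decide +kernel, by decide +kernel, by decide +kernel⟩
theorem frame1 : Frame ![24, 16, 32] ![1, 3, 4] :=
  ⟨by decide +kernel, by decide +kernel, by decide +kernel, by decide +kernel⟩
theorem frame1' : Frame ![24, 8, 32] ![2, 3, 4] :=
  ⟨by decide +kernel, by decide +kernel, by decide +kernel, by decide +kernel⟩
theorem frame2 : Frame ![8, 48, 32] ![1, 2, 6] :=
  ⟨by decide +kernel, by decide +kernel, by decide +kernel, by decide +kernel⟩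
theorem frame2' : Frame ![8, 48, 16] ![1, 4, 6] :=
  ⟨by decide +kernel, by decide +kernel, by decide +kernel, by decide +kernel⟩

/-- Eight generators. -/
def gens8 : List (Fin 64) := [8, 16, 32, 1, 2, 4, 24, 48]

/-- The derivation of all transvections from the generators. -/
def steps : List (Fin 64 × Fin 64) :=
  [(8, 1), (16, 2), (32, 4), (1, 24), (2, 24), (2, 48), (2, 25), (4, 48), (4, 50), (24, 9), (24, 18), (24, 50), (24, 54),
   (48, 18), (48, 36), (48, 27), (48, 10), (8, 27), (8, 43), (16, 27), (16, 54), (16, 46), (16, 43), (16, 19), (16, 35),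
   (32, 54), (32, 46), (32, 38), (32, 62), (1, 46), (1, 62), (1, 14), (1, 30), (2, 58), (2, 62), (2, 59), (2, 51),
   (2, 30), (2, 63), (2, 31), (4, 35), (4, 51), (4, 49), (24, 57), (24, 49), (24, 61), (24, 29), (24, 53), (48, 60),
   (48, 28), (48, 61), (48, 37), (9, 14), (9, 30), (9, 33)]

/-- The transvections reached. -/
def reached (l : List (Fin 64)) : List (Fin 64 × Fin 64) → List (Fin 64)
  | [] => l
  | p :: ps => reached (if p.1 ∈ l ∧ p.2 ∈ l then tS p.1 p.2 :: l else l) ps

theorem reached_all : ∀ a : Fin 64, a ≠ 0 → a ∈ reached gens8 steps := by decide +kernel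

/-- A property of transvections closed under the steps holds of all of them. -/
theorem of_gens {P : Fin 64 → Prop} (hg : ∀ a ∈ gens8, P a)
    (hs : ∀ p ∈ steps, P p.1 → P p.2 → P (tS p.1 p.2)) : ∀ a, a ≠ 0 → P a := by
  suffices ∀ ps l, (∀ p ∈ ps, p ∈ steps) → (∀ a ∈ l, P a) → ∀ a ∈ reached l ps, P a from
    fun a ha => this steps gens8 (fun _ h => h) hg a (reached_all a ha)
  intro ps
  induction ps with
  | nil => exact fun l _ h => h
  | cons p ps ih =>
    intro l hp hl
    refine ih _ (fun q hq => hp q (List.mem_cons_of_mem _ hq)) ?_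
    split_ifs with h
    · rintro a (_ | ⟨_, ha⟩)
      · exact hs p (hp p List.mem_cons_self) (hl _ h.1) (hl _ h.2)
      · exact hl a ha
    · exact hl

theorem tCol_lt : ∀ (a : Fin 64) (i : Fin 8), tCol a.val i.val < 256 := by decide +kernel

theorem step_code : ∀ p ∈ steps, ∀ i : Fin 8,
    tn p.1.val (tn p.2.val (tn p.1.val (2 ^ i.val))) = tCol (tS p.1 p.2).val i.val := by decide +kernel

theorem tn_pow : ∀ (a : Fin 64) (i : Fin 8), tn a.val (2 ^ i.val) = tCol a.val i.val := by decide +kernel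

variable {V : Type*} [AddCommGroup V] [Module (ZMod 2) V] [Finite V] {Q : QuadraticForm (ZMod 2) V}

namespace TRep

variable (R : TRep Q)

/-- The basis vectors, by subsets. -/
def ev (v : V) (x y w : Bool) : V :=
  (bif x then R.N 1 else 1) ((bif y then R.N 2 else 1) ((bif w then R.N 4 else 1) v))

/-- The basis vector of a bit. -/
def fb (v : V) (i : ℕ) : V :=
  R.ev v ((spinPos i).testBit 0) ((spinPos i).testBit 1) ((spinPos i).testBit 2)

/-- The linear map from the spin space. -/
def rl (v : V) : (Fin 4 ⊕ Fin 4 → ZMod 2) →ₗ[ZMod 2] V :=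
  Fintype.linearCombination (ZMod 2) (Sum.elim (fun i : Fin 4 => R.fb v i.val) fun i : Fin 4 => R.fb v (4 + i.val))

/-- The same on codes. -/
def rc (v : V) (x : ℕ) : V :=
  let c : ℕ → V := fun i => if x.testBit i then R.fb v i else 0
  ((c 0 + c 1) + (c 2 + c 3)) + ((c 4 + c 5) + (c 6 + c 7))

theorem rl_dc (v : V) (x : ℕ) : R.rl v (dc x) = R.rc v x := by
  simp only [rl, Fintype.linearCombination_apply, Fintype.sum_sum_type, Fin.sum_univ_four, dec, idxP, rc,
    Sum.elim_inl, Sum.elim_inr]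
  have h : ∀ (p : Bool) (u : V), (if p then (1 : ZMod 2) else 0) • u = if p then u else 0 := fun p u => by
    cases p <;> simp
  erw [h, h, h, h, h, h, h, h]
  show _ = _
  simp only [Fin.val_zero, Fin.val_one, Fin.val_two, show ((3 : Fin 4) : ℕ) = 3 from rfl]
  abel

theorem rc_xor (v : V) (x y : ℕ) : R.rc v (x ^^^ y) = R.rc v x + R.rc v y := by
  rw [← rl_dc, ← rl_dc, ← rl_dc, dc, dec_xor, map_add]

theorem rc_ite (v : V) (p : Bool) (x : ℕ) : R.rc v (if p then x else 0) = if p then R.rc v x else 0 := by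
  cases p
  · simp [rc]
  · simp

theorem intertwine_of_cols (v : V) (a : Fin 64) (h : ∀ i : Fin 8, R.T a (R.fb v i.val) = R.rc v (tCol a.val i.val))
    (x : ℕ) : R.T a (R.rc v x) = R.rc v (tn a.val x) := by
  have hc : ∀ i : Fin 8, R.T a (if x.testBit i.val then R.fb v i.val else 0) =
      R.rc v (if x.testBit i.val then tCol a.val i.val else 0) := fun i => by
    rw [rc_ite]; split_ifs
    · exact h i
    · exact map_zero _
  simp only [tn, rc_xor]
  rw [rc]
  simp only [map_add]
  have hc' : ∀ i < 8, R.T a (if x.testBit i then R.fb v i else 0) =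
      R.rc v (if x.testBit i then tCol a.val i else 0) := fun i hi => hc ⟨i, hi⟩
  rw [hc' 0 (by omega), hc' 1 (by omega), hc' 2 (by omega), hc' 3 (by omega), hc' 4 (by omega),
    hc' 5 (by omega), hc' 6 (by omega), hc' 7 (by omega)]

section spin

variable {v : V} (hv8 : R.N 8 v = 0) (hv16 : R.N 16 v = 0) (hv32 : R.N 32 v = 0)
  (h81 : R.P 8 1 = 1) (h162 : R.P 16 2 = 1) (h324 : R.P 32 4 = 1)

theorem cm {a b : Fin 64} (h : s6 a.val b.val = false) (u : V) : R.N a (R.N b u) = R.N b (R.N a u) :=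
  LinearMap.congr_fun (R.N_comm h) u

theorem sqz (a : Fin 64) (u : V) : R.N a (R.N a u) = 0 := LinearMap.congr_fun (R.N_sq a) u

theorem ac {a b : Fin 64} (h : R.P a b = 1) (u : V) : R.N a (R.N b u) = u + R.N b (R.N a u) := by
  have e : R.N a (R.N b u) + R.N b (R.N a u) = u := LinearMap.congr_fun h u
  conv_rhs => arg 1; rw [← e]
  rw [add_assoc, ZModModule.add_self, add_zero]

theorem raise (x y w : Bool) :
    R.N 1 (R.ev v x y w) = (bif x then 0 else R.ev v true y w) ∧
    R.N 2 (R.ev v x y w) = (bif y then 0 else R.ev v x true w) ∧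
    R.N 4 (R.ev v x y w) = (bif w then 0 else R.ev v x y true) := by
  have c12 : ∀ u, R.N 2 (R.N 1 u) = R.N 1 (R.N 2 u) := R.cm (by decide)
  have c14 : ∀ u, R.N 4 (R.N 1 u) = R.N 1 (R.N 4 u) := R.cm (by decide)
  have c24 : ∀ u, R.N 4 (R.N 2 u) = R.N 2 (R.N 4 u) := R.cm (by decide)
  cases x <;> cases y <;> cases w <;> simp [ev, c12, c14, c24, R.sqz, map_zero]

include hv8 hv16 hv32 h81 h162 h324 in
theorem lower (x y w : Bool) :
    R.N 8 (R.ev v x y w) = (bif x then R.ev v false y w else 0) ∧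
    R.N 16 (R.ev v x y w) = (bif y then R.ev v x false w else 0) ∧
    R.N 32 (R.ev v x y w) = (bif w then R.ev v x y false else 0) := by
  have a8 : ∀ u, R.N 8 (R.N 1 u) = u + R.N 1 (R.N 8 u) := R.ac h81
  have a16 : ∀ u, R.N 16 (R.N 2 u) = u + R.N 2 (R.N 16 u) := R.ac h162
  have a32 : ∀ u, R.N 32 (R.N 4 u) = u + R.N 4 (R.N 32 u) := R.ac h324
  have c82 : ∀ u, R.N 8 (R.N 2 u) = R.N 2 (R.N 8 u) := R.cm (by decide)
  have c84 : ∀ u, R.N 8 (R.N 4 u) = R.N 4 (R.N 8 u) := R.cm (by decide)
  have c161 : ∀ u, R.N 16 (R.N 1 u) = R.N 1 (R.N 16 u) := R.cm (by decide)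
  have c164 : ∀ u, R.N 16 (R.N 4 u) = R.N 4 (R.N 16 u) := R.cm (by decide)
  have c321 : ∀ u, R.N 32 (R.N 1 u) = R.N 1 (R.N 32 u) := R.cm (by decide)
  have c322 : ∀ u, R.N 32 (R.N 2 u) = R.N 2 (R.N 32 u) := R.cm (by decide)
  cases x <;> cases y <;> cases w <;>
    simp [ev, a8, a16, a32, c82, c84, c161, c164, c321, c322, hv8, hv16, hv32, map_zero, map_add]

include hv8 hv16 hv32 h81 h162 h324 in
theorem gens_intertwine (h24 : R.N 24 = R.N 8 + R.N 16) (h48 : R.N 48 = R.N 16 + R.N 32) :
    ∀ a ∈ gens8, ∀ i : Fin 8, R.T a (R.fb v i.val) = R.rc v (tCol a.val i.val) := by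
  have hr := fun x y w => R.raise (v := v) x y w
  have hl := fun x y w => R.lower hv8 hv16 hv32 h81 h162 h324 x y w
  intro a ha i
  simp only [gens8, List.mem_cons, List.not_mem_nil, or_false] at ha
  rw [R.T_eq, LinearMap.add_apply, Module.End.one_apply]
  rcases ha with rfl | rfl | rfl | rfl | rfl | rfl | rfl | rfl
  all_goals
    simp only [h24, h48, LinearMap.add_apply, fb, (hr _ _ _).1, (hr _ _ _).2.1, (hr _ _ _).2.2,
      (hl _ _ _).1, (hl _ _ _).2.1, (hl _ _ _).2.2]
    fin_cases i <;>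
      simp [rc, fb, tCol, gamCol, spinPos, q6, Nat.testBit, Nat.shiftRight_eq_div_pow] <;> abel

/-- Kills of the vacuum. -/
theorem exists_vac (h81 : R.P 8 1 = 1) (h162 : R.P 16 2 = 1) (h324 : R.P 32 4 = 1) :
    ∃ v, v ≠ 0 ∧ R.N 8 v = 0 ∧ R.N 16 v = 0 ∧ R.N 32 v = 0 ∧
      ∀ u, R.N 8 u = 0 → R.N 16 u = 0 → R.N 32 u = 0 → u = 0 ∨ u = v := by
  have hh : ∀ {a b : Fin 64}, R.P a b = 1 → ∀ x, R.N a (R.N b x) + R.N b (R.N a x) = x :=
    fun h x => LinearMap.congr_fun h x
  set K1 : Submodule (ZMod 2) V := ⊤ ⊓ LinearMap.ker (R.N 8)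
  set K2 : Submodule (ZMod 2) V := K1 ⊓ LinearMap.ker (R.N 16)
  set K3 : Submodule (ZMod 2) V := K2 ⊓ LinearMap.ker (R.N 32)
  have mk : ∀ {a b : Fin 64}, s6 a.val b.val = false → ∀ {x}, R.N a x = 0 → R.N a (R.N b x) = 0 :=
    fun h x hx => by rw [R.cm h, hx, map_zero]
  have e1 : Nat.card V = Nat.card ↥K1 * Nat.card ↥K1 := by
    rw [← double ⊤ (R.N 8) (R.N 1) (fun _ _ => trivial) (fun _ _ => trivial) (R.N_sq _) fun x _ => hh h81 x]
    exact (Nat.card_congr Submodule.topEquiv.toEquiv).symm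
  have e2 := double K1 (R.N 16) (R.N 2) (fun x hx => ⟨trivial, mk (by decide) hx.2⟩)
    (fun x hx => ⟨trivial, mk (by decide) hx.2⟩) (R.N_sq _) fun x _ => hh h162 x
  have e3 := double K2 (R.N 32) (R.N 4) (fun x hx => ⟨⟨trivial, mk (by decide) hx.1.2⟩, mk (by decide) hx.2⟩)
    (fun x hx => ⟨⟨trivial, mk (by decide) hx.1.2⟩, mk (by decide) hx.2⟩) (R.N_sq _) fun x _ => hh h324 x
  rw [R.card] at e1
  have c1 : Nat.card ↥K1 = 16 := Nat.mul_self_inj.1 e1.symm
  have c2 : Nat.card ↥K2 = 4 := Nat.mul_self_inj.1 (e2.symm.trans c1)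
  have c3 : Nat.card ↥K3 = 2 := Nat.mul_self_inj.1 (e3.symm.trans c2)
  have key : ∀ u, R.N 8 u = 0 → R.N 16 u = 0 → R.N 32 u = 0 → u ∈ K3 := fun u h1 h2 h3 =>
    ⟨⟨⟨trivial, h1⟩, h2⟩, h3⟩
  obtain ⟨x, hx, hu⟩ := (Nat.card_eq_two_iff' (0 : ↥K3)).1 c3
  refine ⟨x.1, fun e => hx (Subtype.ext e), x.2.1.1.2, x.2.1.2, x.2.2, fun y h1 h2 h3 => ?_⟩
  by_cases hy : y = 0
  · exact Or.inl hy
  · exact Or.inr (congrArg Subtype.val (hu ⟨y, key y h1 h2 h3⟩ fun e => hy (congrArg Subtype.val e)))

end spin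

/-- The spin representation up to an isometry, or a fixed non-singular vector. -/
theorem spin_or_fixed :
    (∃ v, Q v = 1 ∧ ∀ a, a ≠ 0 → (R.t a).1 v = v) ∨
    ∃ r : (Fin 4 ⊕ Fin 4 → ZMod 2) ≃ₗ[ZMod 2] V, (∀ x, Q (r x) = qP 4 x) ∧
      ∀ a : Fin 64, a ≠ 0 → ∀ x : Fin 256, (R.t a).1 (r (dc x.val)) = r (dc (tn a.val x.val)) := by
  classical
  rcases R.frame_cases frame0 with hone | ⟨hzero, v, hv0, hqv, hkill⟩
  swap
  · left
    refine ⟨v, hqv, fun a ha => ?_⟩
    suffices R.N a v = 0 by
      have e : (R.t a).1 v + v = 0 := this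
      exact (add_eq_zero_iff_eq_neg.1 e).trans (ZModModule.neg_eq_self v)
    have other : ∀ {a b : Fin 3 → Fin 64}, Frame a b → ∀ i, (a i = a0 i ∧ b i = b0 i) →
        ∀ j, R.N (a j) v = 0 := by
      rintro a b F i ⟨ea, eb⟩ j
      rcases R.frame_cases F with h | ⟨-, v', hv', -, hk⟩
      · exfalso
        obtain ⟨l, hl⟩ : ∃ l, i ≠ l := (by decide : ∀ i : Fin 3, ∃ l, i ≠ l) i
        have h1 := hzero i l hl
        rw [← ea, ← eb, h i, one_mul] at h1
        exact R.P_ne_zero (sab frame0 l) h1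
      · have e1 := (hk i).2.2
        have e2 := (hkill i).2.2
        simp only [fixVec, ea, eb] at e1
        simp only [fixVec] at e2
        rw [e2] at e1
        have hvv : v = v' := ((e1.subset (Or.inr rfl)).resolve_left hv0)
        rw [hvv]
        exact (hk j).1
    refine of_gens (P := fun a => R.N a v = 0) ?_ ?_ a ha
    · intro c hc
      simp only [gens8, List.mem_cons, List.not_mem_nil, or_false] at hc
      rcases hc with rfl | rfl | rfl | rfl | rfl | rfl | rfl | rfl
      exacts [(hkill 0).1, (hkill 1).1, (hkill 2).1, (hkill 0).2.1, (hkill 1).2.1, (hkill 2).2.1,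
        other frame1 2 ⟨rfl, rfl⟩ 0, other frame2 0 ⟨rfl, rfl⟩ 1]
    · intro p _ h1 h2
      rw [← R.N_conj]
      have e : R.T p.1 v = v := by
        rw [R.T_eq, LinearMap.add_apply, h1, zero_add]; rfl
      show R.T p.1 (R.N p.2 (R.T p.1 v)) = 0
      rw [e, h2, map_zero]
  right
  have h81 : R.P 8 1 = 1 := hone 0
  have h162 : R.P 16 2 = 1 := hone 1
  have h324 : R.P 32 4 = 1 := hone 2
  have other : ∀ {a b : Fin 3 → Fin 64}, Frame a b → ∀ i, R.P (a i) (b i) = 1 → ∀ j, R.P (a j) (b j) = 1 := by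
    intro a b F i hi j
    rcases R.frame_cases F with h | ⟨hz, -⟩
    · exact h j
    · exfalso
      obtain ⟨l, hl⟩ : ∃ l, i ≠ l := (by decide : ∀ i : Fin 3, ∃ l, i ≠ l) i
      have h1 := hz i l hl
      rw [hi, one_mul] at h1
      exact R.P_ne_zero (sab F l) h1
  have h241 : R.P 24 1 = 1 := other frame1 2 h324 0
  have h242 : R.P 24 2 = 1 := other frame1' 2 h324 0
  have h482 : R.P 48 2 = 1 := other frame2 0 h81 1
  have h484 : R.P 48 4 = 1 := other frame2' 0 h81 1
  obtain ⟨v, hv0, hv8, hv16, hv32, huniq⟩ := R.exists_vac h81 h162 h324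
  -- the two further generators
  have coupled : ∀ (c p q : Fin 64) (X : Module.End (ZMod 2) V), X = R.N c + (R.N p + R.N q) →
      s6 c.val p.val = false → s6 c.val q.val = false → s6 p.val q.val = false →
      (∀ u, X (R.N 8 u) = R.N 8 (X u)) → (∀ u, X (R.N 16 u) = R.N 16 (X u)) → (∀ u, X (R.N 32 u) = R.N 32 (X u)) →
      (∀ u, X (R.N 1 u) = R.N 1 (X u)) → (∀ u, X (R.N 2 u) = R.N 2 (X u)) → (∀ u, X (R.N 4 u) = R.N 4 (X u)) →
      R.N c = R.N p + R.N q := by
    intro c p q X hX hcp hcq hpq h8 h16 h32 h1 h2 h4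
    have hXX : ∀ u, X (X u) = 0 := fun u => by
      subst hX
      simp only [LinearMap.add_apply, map_add, R.sqz, zero_add, add_zero]
      rw [R.cm hcp, R.cm hcq, R.cm hpq]
      abel_nf
      simp [two_nsmul, two_zsmul, ZModModule.add_self]
    have hXv : X v = 0 := by
      refine (huniq (X v) (by rw [← h8, hv8, map_zero]) (by rw [← h16, hv16, map_zero])
        (by rw [← h32, hv32, map_zero])).resolve_right fun e => ?_
      have := hXX v
      rw [e, e] at this
      exact hv0 this
    have hX0 : X = 0 := by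
      have K : ∀ (a b : Fin 64), R.P a b = 1 → (∀ u, X (R.N b u) = R.N b (X u)) →
          ∀ S : V → Prop, (∀ u, S u → R.N a u = 0 → X u = 0) → (∀ u, S u → S (R.N a u)) →
          (∀ u, S u → S (u + R.N b (R.N a u))) → ∀ u, S u → X u = 0 := by
        intro a b hab hb S hk hSa hSl u hu
        have e : u = (u + R.N b (R.N a u)) + R.N b (R.N a u) := by
          rw [add_assoc, ZModModule.add_self, add_zero]
        have hz : R.N a (u + R.N b (R.N a u)) = 0 := by
          rw [map_add, R.ac hab, R.sqz, map_zero, add_zero, ZModModule.add_self]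
        rw [e, map_add, hk _ (hSl u hu) hz, hb, hk _ (hSa u hu) (R.sqz a u), map_zero, add_zero]
      refine LinearMap.ext fun u => ?_
      have k3 : ∀ u, R.N 8 u = 0 ∧ R.N 16 u = 0 → X u = 0 := by
        refine K 32 4 h324 h4 _ (fun u hu hu' => ?_) (fun u hu => ?_) (fun u hu => ?_)
        · rcases huniq u hu.1 hu.2 hu' with e | e <;> rw [e]
          exacts [map_zero X, hXv]
        · exact ⟨by rw [R.cm (by decide : s6 (8 : Fin 64).val (32 : Fin 64).val = false), hu.1, map_zero],
            by rw [R.cm (by decide : s6 (16 : Fin 64).val (32 : Fin 64).val = false), hu.2, map_zero]⟩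
        · constructor
          · rw [map_add, hu.1, R.cm (by decide : s6 (8 : Fin 64).val (4 : Fin 64).val = false),
              R.cm (by decide : s6 (8 : Fin 64).val (32 : Fin 64).val = false), hu.1]; simp
          · rw [map_add, hu.2, R.cm (by decide : s6 (16 : Fin 64).val (4 : Fin 64).val = false),
              R.cm (by decide : s6 (16 : Fin 64).val (32 : Fin 64).val = false), hu.2]; simp
      have k2 : ∀ u, R.N 8 u = 0 → X u = 0 := by
        refine K 16 2 h162 h2 _ (fun u hu hu' => k3 u ⟨hu, hu'⟩) (fun u hu => ?_) (fun u hu => ?_)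
        · rw [R.cm (by decide : s6 (8 : Fin 64).val (16 : Fin 64).val = false), hu, map_zero]
        · rw [map_add, hu, R.cm (by decide : s6 (8 : Fin 64).val (2 : Fin 64).val = false),
            R.cm (by decide : s6 (8 : Fin 64).val (16 : Fin 64).val = false), hu]; simp
      exact K 8 1 h81 h1 (fun _ => True) (fun u _ hu => k2 u hu) (fun _ _ => trivial) (fun _ _ => trivial) u trivial
    rw [hX] at hX0
    exact (add_eq_zero_iff_eq_neg.1 hX0).trans (LinearMap.ext fun u => ZModModule.neg_eq_self _)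
  have anti : ∀ {c p q b : Fin 64}, R.P c b = 1 → R.P p b = 1 → s6 q.val b.val = false →
      ∀ u, (R.N c + (R.N p + R.N q)) (R.N b u) = R.N b ((R.N c + (R.N p + R.N q)) u) := by
    intro c p q b hc hp hq u
    simp only [LinearMap.add_apply, map_add]
    rw [R.ac hc, R.ac hp, R.cm hq, ← add_assoc (u + R.N b (R.N c u))]
    abel_nf
    simp [two_nsmul, two_zsmul, ZModModule.add_self]
  have allc : ∀ {c p q b : Fin 64}, s6 c.val b.val = false → s6 p.val b.val = false → s6 q.val b.val = false →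
      ∀ u, (R.N c + (R.N p + R.N q)) (R.N b u) = R.N b ((R.N c + (R.N p + R.N q)) u) := by
    intro c p q b hc hp hq u
    simp only [LinearMap.add_apply, map_add, R.cm hc, R.cm hp, R.cm hq]
  have h24 : R.N 24 = R.N 8 + R.N 16 := coupled 24 8 16 _ rfl (by decide) (by decide) (by decide)
    (allc (by decide) (by decide) (by decide)) (allc (by decide) (by decide) (by decide))
    (allc (by decide) (by decide) (by decide)) (anti h241 h81 (by decide))
    (by rw [add_comm (R.N 8) (R.N 16)]; exact anti h242 h162 (by decide))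
    (allc (by decide) (by decide) (by decide))
  have h48 : R.N 48 = R.N 16 + R.N 32 := coupled 48 16 32 _ rfl (by decide) (by decide) (by decide)
    (allc (by decide) (by decide) (by decide)) (allc (by decide) (by decide) (by decide))
    (allc (by decide) (by decide) (by decide)) (allc (by decide) (by decide) (by decide))
    (anti h482 h162 (by decide))
    (by rw [add_comm (R.N 16) (R.N 32)]; exact anti h484 h324 (by decide))
  have hgens := R.gens_intertwine hv8 hv16 hv32 h81 h162 h324 h24 h48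
  have hall : ∀ a, a ≠ 0 → ∀ i : Fin 8, R.T a (R.fb v i.val) = R.rc v (tCol a.val i.val) := by
    refine of_gens hgens fun p hp h1 h2 i => ?_
    have hf : R.rc v (2 ^ i.val) = R.fb v i.val := by fin_cases i <;> simp [rc, Nat.testBit, Nat.shiftRight_eq_div_pow]
    rw [← R.T_rel, Module.End.mul_apply, Module.End.mul_apply, ← hf, R.intertwine_of_cols v p.1 h1,
      R.intertwine_of_cols v p.2 h2, R.intertwine_of_cols v p.1 h1, step_code p hp i]
  -- surjectivity
  have hst : ∀ a ∈ gens8, ∀ u ∈ LinearMap.range (R.rl v), R.N a u ∈ LinearMap.range (R.rl v) := by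
    rintro a ha _ ⟨x, rfl⟩
    have hx : R.rl v x = R.rc v (enc x) := by
      rw [← rl_dc]; congr 1
      exact ((by decide +kernel : ∀ x : Fin 4 ⊕ Fin 4 → ZMod 2, dc (enc x) = x) x).symm
    have e : R.N a (R.rl v x) = R.rl v (dc (tn a.val (enc x))) + R.rl v x := by
      rw [rl_dc, ← R.intertwine_of_cols v a (hgens a ha), ← hx, N]; rfl
    exact ⟨dc (tn a.val (enc x)) + x, by rw [map_add, e]⟩
  have hvr : v ∈ LinearMap.range (R.rl v) := ⟨dc 1, by
    rw [rl_dc]; simp [rc, fb, ev, spinPos, Nat.testBit, Nat.shiftRight_eq_div_pow]⟩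
  have hsurj : Function.Surjective (R.rl v) := by
    set W := LinearMap.range (R.rl v)
    have K : ∀ (a b : Fin 64), R.P a b = 1 → b ∈ gens8 → ∀ S : V → Prop, (∀ u, S u → R.N a u = 0 → u ∈ W) →
        (∀ u, S u → S (R.N a u)) → (∀ u, S u → S (u + R.N b (R.N a u))) → ∀ u, S u → u ∈ W := by
      intro a b hab hb S hk hSa hSl u hu
      have e : u = (u + R.N b (R.N a u)) + R.N b (R.N a u) := by
        rw [add_assoc, ZModModule.add_self, add_zero]
      rw [e]
      exact W.add_mem (hk _ (hSl u hu) (by rw [map_add, R.ac hab, R.sqz, map_zero, add_zero, ZModModule.add_self]))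
        (hst b hb _ (hk _ (hSa u hu) (R.sqz a u)))
    intro u
    refine K 8 1 h81 (by decide) (fun _ => True) (fun u _ hu => ?_) (fun _ _ => trivial) (fun _ _ => trivial) u trivial
    revert u
    refine fun u hu => K 16 2 h162 (by decide) (fun u => R.N 8 u = 0) ?_ ?_ ?_ u hu
    · intro u hu hu'
      refine K 32 4 h324 (by decide) (fun u => R.N 8 u = 0 ∧ R.N 16 u = 0) ?_ ?_ ?_ u ⟨hu, hu'⟩
      · intro u hu hu'
        rcases huniq u hu.1 hu.2 hu' with e | e <;> rw [e]
        exacts [W.zero_mem, hvr]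
      · exact fun u hu => ⟨by rw [R.cm (by decide : s6 (8 : Fin 64).val (32 : Fin 64).val = false), hu.1, map_zero],
          by rw [R.cm (by decide : s6 (16 : Fin 64).val (32 : Fin 64).val = false), hu.2, map_zero]⟩
      · intro u hu
        constructor
        · rw [map_add, hu.1, R.cm (by decide : s6 (8 : Fin 64).val (4 : Fin 64).val = false),
            R.cm (by decide : s6 (8 : Fin 64).val (32 : Fin 64).val = false), hu.1]; simp
        · rw [map_add, hu.2, R.cm (by decide : s6 (16 : Fin 64).val (4 : Fin 64).val = false),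
            R.cm (by decide : s6 (16 : Fin 64).val (32 : Fin 64).val = false), hu.2]; simp
    · exact fun u hu => by rw [R.cm (by decide : s6 (8 : Fin 64).val (16 : Fin 64).val = false), hu, map_zero]
    · intro u hu
      rw [map_add, hu, R.cm (by decide : s6 (8 : Fin 64).val (2 : Fin 64).val = false),
        R.cm (by decide : s6 (8 : Fin 64).val (16 : Fin 64).val = false), hu]; simp
  have hinj : Function.Injective (R.rl v) :=
    ((Nat.bijective_iff_surjective_and_card _).2 ⟨hsurj, by
      rw [R.card, Nat.card_fun, Nat.card_zmod]; simp⟩).1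
  let r := LinearEquiv.ofBijective (R.rl v) ⟨hinj, hsurj⟩
  refine ⟨r, ?_, fun a ha x => ?_⟩
  swap
  · show R.T a (R.rl v (dc x.val)) = R.rl v (dc (tn a.val x.val))
    rw [rl_dc, rl_dc]
    exact R.intertwine_of_cols v a (hall a ha) _
  -- the form
  have pol0 : ∀ x y w, polar Q v (R.ev v x y w) = if x && y && w then 1 else 0 := by
    have e8 : v = R.N 8 (R.N 1 v) := by rw [R.ac h81, hv8, map_zero, add_zero]
    have e16 : v = R.N 16 (R.N 2 v) := by rw [R.ac h162, hv16, map_zero, add_zero]
    have e32 : v = R.N 32 (R.N 4 v) := by rw [R.ac h324, hv32, map_zero, add_zero]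
    have z8 : ∀ y w, polar Q v (R.ev v false y w) = 0 := fun y w => by
      conv_lhs => arg 2; rw [e8]
      rw [R.N_adjoint, (R.lower hv8 hv16 hv32 h81 h162 h324 false y w).1]; simp
    have z16 : ∀ x w, polar Q v (R.ev v x false w) = 0 := fun x w => by
      conv_lhs => arg 2; rw [e16]
      rw [R.N_adjoint, (R.lower hv8 hv16 hv32 h81 h162 h324 x false w).2.1]; simp
    have z32 : ∀ x y, polar Q v (R.ev v x y false) = 0 := fun x y => by
      conv_lhs => arg 2; rw [e32]
      rw [R.N_adjoint, (R.lower hv8 hv16 hv32 h81 h162 h324 x y false).2.2]; simp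
    intro x y w
    cases x
    · simp [z8]
    cases y
    · simp [z16]
    cases w
    · simp [z32]
    refine ((by decide : ∀ a : ZMod 2, a = 0 ∨ a = 1) _).resolve_left fun e => hv0 (R.eq_zero_of_perp fun u => ?_)
    obtain ⟨z, rfl⟩ := hsurj u
    simp [rl, Fintype.linearCombination_apply, Fintype.sum_sum_type, Fin.sum_univ_four, fb, spinPos,
      polar_add_right, polar_smul_right, Nat.testBit, Nat.shiftRight_eq_div_pow, z8, z16, z32, e]
  have pol : ∀ x y w x' y' w', polar Q (R.ev v x y w) (R.ev v x' y' w') =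
      if (x != x') && (y != y') && (w != w') then 1 else 0 := by
    intro x y w x' y' w'
    have hr := fun x y w => R.raise (v := v) x y w
    have base : ev R v false false false = v := by simp [ev]
    cases x <;> cases y <;> cases w <;>
      simp [ev, R.N_adjoint] <;>
      simp [show ∀ p q s, (bif p then R.N 1 else 1) ((bif q then R.N 2 else 1) ((bif s then R.N 4 else 1) v)) =
        R.ev v p q s from fun _ _ _ => rfl, hr, pol0] <;>
      cases x' <;> cases y' <;> cases w' <;> simp [hr, pol0]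
  have qval : ∀ x y w, Q (R.ev v x y w) = 0 := by
    intro x y w
    have hN : ∀ (a : Fin 64) (u : V), Q (R.N a u) = polar Q u (R.N a u) := R.q_N
    have hr := fun x y w => R.raise (v := v) x y w
    cases x
    · cases y
      · cases w
        · have e8 : R.ev v false false false = R.N 8 (R.ev v true false false) := by
            rw [(R.lower hv8 hv16 hv32 h81 h162 h324 true false false).1]; rfl
          rw [e8, hN, ← e8, pol]; rfl
        · rw [show R.ev v false false true = R.N 4 (R.ev v false false false) from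
            ((hr false false false).2.2).symm, hN, (hr _ _ _).2.2, cond_false, pol]; rfl
      · rw [show R.ev v false true w = R.N 2 (R.ev v false false w) from
          ((hr false false w).2.1).symm, hN, (hr _ _ _).2.1, cond_false, pol]; simp
    · rw [show R.ev v true y w = R.N 1 (R.ev v false y w) from ((hr false y w).1).symm, hN, (hr _ _ _).1,
        cond_false, pol]; simp
  have hB : ∀ x y, polar Q (R.rl v x) (R.rl v y) = polar (qP 4) x y := by
    have e : (polarBilin Q).compl₁₂ (R.rl v) (R.rl v) = polarBilin (qP 4) := by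
      refine LinearMap.ext_basis (Pi.basisFun _ _) (Pi.basisFun _ _) fun i j => ?_
      have hd : ∀ i : Fin 4 ⊕ Fin 4, Pi.single i (1 : ZMod 2) = dc (2 ^ idxP 4 i) := by decide +kernel
      simp only [Pi.basisFun_apply, LinearMap.compl₁₂_apply, polarBilin_apply_apply, hd, rl_dc]
      rcases i with i | i <;> rcases j with j | j <;>
        · rw [polar_dc ⟨2 ^ idxP 4 _, by revert i; decide +kernel⟩ ⟨2 ^ idxP 4 _, by revert j; decide +kernel⟩]
          fin_cases i <;> fin_cases j <;>
            simp [rc, fb, spinPos, idxP, Nat.testBit, Nat.shiftRight_eq_div_pow, pol, bz, Bn, par4]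
    exact fun x y => LinearMap.congr_fun (LinearMap.congr_fun e x) y
  intro x
  show Q (R.rl v x) = qP 4 x
  let D : (Fin 4 ⊕ Fin 4 → ZMod 2) →+ ZMod 2 :=
    { toFun := fun x => Q (R.rl v x) - qP 4 x
      map_zero' := by simp
      map_add' := fun x y => by
        have h1 := QuadraticMap.map_add Q (R.rl v x) (R.rl v y)
        have h2 := QuadraticMap.map_add (qP 4) x y
        rw [map_add (R.rl v), h1, h2, hB]; ring }
  have hD : ∀ i, D (Pi.single i (1 : ZMod 2)) = 0 := by
    intro i
    show Q (R.rl v _) - qP 4 _ = 0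
    rw [show Pi.single i (1 : ZMod 2) = dc (2 ^ idxP 4 i) from
      (by decide +kernel : ∀ i : Fin 4 ⊕ Fin 4, Pi.single i (1 : ZMod 2) = dc (2 ^ idxP 4 i)) i, rl_dc]
    rcases i with i | i <;> fin_cases i <;>
      simp [rc, fb, spinPos, idxP, Nat.testBit, Nat.shiftRight_eq_div_pow, qval,
        qP_dc ⟨1, by norm_num⟩, qP_dc ⟨2, by norm_num⟩, qP_dc ⟨4, by norm_num⟩, qP_dc ⟨8, by norm_num⟩,
        qP_dc ⟨16, by norm_num⟩, qP_dc ⟨32, by norm_num⟩, qP_dc ⟨64, by norm_num⟩, qP_dc ⟨128, by norm_num⟩,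
        qn, par4, bz]
  have h0 : D x = 0 := by
    rw [← Finset.univ_sum_single x, map_sum]
    refine Finset.sum_eq_zero fun i _ => ?_
    rcases (by decide : ∀ a : ZMod 2, a = 0 ∨ a = 1) (x i) with e | e <;> rw [e]
    · rw [Pi.single_zero]; exact map_zero D
    · exact hD i
  exact sub_eq_zero.1 h0

end TRep

end Cfsg.Agent.CoTwoType
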