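import Cfsg.Agent.CoTwoUniq.Cent.SpinClasses
import Cfsg.Agent.CoOneWeak.NoHigh
import Cfsg.Agent.Fi24Cent.Isolation

/-!
An involution centralising `z` and acting as a transvection or as a product of two commuting ones.

A conjugate of `z` outside `O_2(C(z))` exists. One may be taken with a common element of the two cores over
its displacements, hence over no product of three transvections with independent centres. Over a product of
three transvections on a line, the image of the part of the second core centralising `z` is normalised by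
the whole centraliser of that product, which yields an element of one of the two classes.
-/

set_option autoImplicit false
set_option maxHeartbeats 1000000

open Cfsg Cfsg.Agent.ThreeTrans.OrthCohom Cfsg.Agent.Classical.Quad QuadraticMap Cfsg.Agent.LargeExtra
  Cfsg.Agent.CoOneType
open Cfsg.Agent.Co3Rec (Sp)
open Cfsg.Agent.CoOneWeak (CoW)
open Cfsg.Agent.CoOneWeak.CoW
open Cfsg.Agent.CoTwoUniq.Cent
open scoped Cfsg.Agent.CoOneWeak
open scoped Classical

namespace Cfsg.Agent.CoTwoType

variable {G : Type*} [Group G] [Finite G] {z : G} (S : CoT z)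

/-- The image in the symplectic group. -/
noncomputable def img (c : G) (hc : c * z = z * c) : Sp := χ ⟨S.act c, S.act_mem c hc⟩

theorem img_mul {c d : G} (hc : c * z = z * c) (hd : d * z = z * d) (h : c * d * z = z * (c * d)) :
    img S (c * d) h = img S c hc * img S d hd := by
  rw [img, img, img, ← map_mul]
  exact congrArg χ (Subtype.ext (S.toBase.act_mul hc hd))

theorem img_inv {c : G} (hc : c * z = z * c) (h : c⁻¹ * z = z * c⁻¹) : img S c⁻¹ h = (img S c hc)⁻¹ := by
  rw [img, img, ← map_inv]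
  exact congrArg χ (Subtype.ext (S.toBase.act_inv hc))

theorem img_pow {c : G} (hc : c * z = z * c) : ∀ (n : ℕ) (h : c ^ n * z = z * c ^ n),
    img S (c ^ n) h = img S c hc ^ n
  | 0, h => by
    rw [show img S c hc ^ 0 = 1 from pow_zero _, img, ← map_one χ]
    refine congrArg χ (Subtype.ext ?_)
    show S.act (c ^ 0) = 1
    rw [pow_zero, S.toBase.act_one]
  | n + 1, h => by
    have hn : c ^ n * z = z * c ^ n := (Commute.pow_left hc n).eq
    simp only [pow_succ]
    rw [img_mul S hn hc, img_pow hc n hn]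

theorem act_eq_of_img {c : G} (hc : c * z = z * c) {o : ↥sp6} (h : img S c hc = χ o) : S.act c = o.1 :=
  congrArg Subtype.val (χ_injective S h)

theorem exists_img (B : Sp) : ∃ c, ∃ hc : c * z = z * c, img S c hc = B := by
  obtain ⟨o, rfl⟩ := χ_surjective B
  obtain ⟨c, hc, e⟩ := S.act_surj o.1 o.2
  exact ⟨c, hc, congrArg χ (Subtype.ext e)⟩

/-- An element of the centraliser over a short involution, whose square is trivial. -/
theorem exists_of_short {m : G} (hm : m * z = z * m) (hmm : m * m = 1) {g : Sp}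
    (hg : g * img S m hm * g⁻¹ = tT ∨ g * img S m hm * g⁻¹ = cT) :
    ∃ s, s * z = z * s ∧ s * s = 1 ∧ (S.act s = tS.1 ∨ S.act s = cS.1) := by
  obtain ⟨c, hc, rfl⟩ := exists_img S g
  have hci : c⁻¹ * z = z * c⁻¹ := (Commute.inv_left hc).eq
  have hcm : c * m * z = z * (c * m) := Commute.mul_left hc hm
  have h : c * m * c⁻¹ * z = z * (c * m * c⁻¹) := Commute.mul_left hcm hci
  refine ⟨c * m * c⁻¹, h, by rw [show c * m * c⁻¹ * (c * m * c⁻¹) = c * (m * m) * c⁻¹ by group, hmm]; group, ?_⟩
  rw [← img_inv S hc hci, ← img_mul S hc hm hcm, ← img_mul S hcm hci h, ← χ_tS, ← χ_cS] at hg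
  exact hg.imp (act_eq_of_img S h) (act_eq_of_img S h)

variable {g : G} (O : S.toCoW.Out g)
include O

theorem pa_square {r : G} (hr : r ∈ S.toCoW.PA g) : r * r = 1 ∨ r * r = cj z g := by
  have hq := pull O hr.1
  have h := S.toBase.pr_sq _ hq
  rcases CoOneType.zmod_cases (qP 4 (S.pr (g⁻¹ * r * g))) with e | e
  · left
    rw [e, zp_zero, show g⁻¹ * r * g * (g⁻¹ * r * g) = g⁻¹ * (r * r) * g by group] at h
    calc r * r = g * (g⁻¹ * (r * r) * g) * g⁻¹ := by group
      _ = 1 := by rw [h]; group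
  · right
    rw [e, zp_one, show g⁻¹ * r * g * (g⁻¹ * r * g) = g⁻¹ * (r * r) * g by group] at h
    calc r * r = g * (g⁻¹ * (r * r) * g) * g⁻¹ := by group
      _ = cj z g := by rw [h]

theorem pa_four {r : G} (hr : r ∈ S.toCoW.PA g) : r ^ 4 = 1 := by
  rw [show r ^ 4 = r * r * (r * r) by simp [pow_succ, mul_assoc]]
  rcases pa_square S O hr with e | e <;> rw [e]
  · rw [one_mul]
  · exact ss O

/-- With the whole axis centralised, every element commuting with the image lifts into the centraliser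
of the conjugate. -/
theorem lift_cent {d : G} (hd : d ∈ oc z) (hd' : d ∈ oc (cj z g)) (h0 : S.pr d ≠ 0) {y : V}
    (hy : (S.act (cj z g)).1 y + y = S.pr d) (hu : S.act (cj z g) = aS.1) {o : Cfsg.Agent.CoOneType.O}
    (ho : o ∈ sp6) (hcom : o * aS.1 = aS.1 * o) :
    ∃ c, c * z = z * c ∧ c * cj z g = cj z g * c ∧ S.act c = o := by
  obtain ⟨c, hc, rfl⟩ := S.act_surj o ho
  set s := cj z g
  have hci : c⁻¹ * z = z * c⁻¹ := (Commute.inv_left hc).eq
  have hs' : c * s * c⁻¹ * z = z * (c * s * c⁻¹) := Commute.mul_left (Commute.mul_left hc O.comm) hci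
  have hact : S.act (c * s * c⁻¹) = S.act s := by
    rw [S.toBase.act_mul (Commute.mul_left hc O.comm).eq hci, S.toBase.act_mul hc O.comm,
      S.toBase.act_inv hc, hu, hcom, mul_inv_cancel_right]
  have hq : s * (c * s * c⁻¹) ∈ oc z := S.act_ker _ (Commute.mul_left O.comm hs').eq (by
    rw [S.toBase.act_mul O.comm hs', hact, act_sq O])
  set q := s * (c * s * c⁻¹)
  have hsq : c * s * c⁻¹ = s * q := by
    show _ = s * (s * (c * s * c⁻¹))
    rw [← mul_assoc s s, ss O, one_mul]
  have hall : ∀ x, (S.act s).1 x = x → S.toCoW.Cn g x := fun x hx => all_cn O hd hd' h0 hy hx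
  have hperp : ∀ v, aS.1.1 v = v → Bp (S.pr q) v = 0 := by
    intro v hv
    obtain ⟨p, hp, rfl⟩ := S.pr_surj v
    rw [← S.toBase.commute_iff hq hp]
    have h1 : p * s = s * p := (cn_iff O hp).1 (hall _ (by rw [hu]; exact hv))
    have hp' : c⁻¹ * p * c ∈ oc z := by
      have := S.toBase.nrm hci hp
      rwa [inv_inv] at this
    have hfix : (S.act s).1 (S.pr (c⁻¹ * p * c)) = S.pr (c⁻¹ * p * c) := by
      have e := S.act_spec c⁻¹ hci p hp
      rw [inv_inv] at e
      have hcom' : (S.act c)⁻¹ * aS.1 = aS.1 * (S.act c)⁻¹ := (Commute.inv_left hcom).eq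
      rw [e, hu, S.toBase.act_inv hc, ← oG_mul_apply, ← hcom', oG_mul_apply, hv]
    have h2 : c⁻¹ * p * c * s = s * (c⁻¹ * p * c) := (cn_iff O hp').1 (hall _ hfix)
    have h3 : p * (c * s * c⁻¹) = c * s * c⁻¹ * p := by
      calc p * (c * s * c⁻¹) = c * (c⁻¹ * p * c * s) * c⁻¹ := by group
        _ = c * (s * (c⁻¹ * p * c)) * c⁻¹ := by rw [h2]
        _ = c * s * c⁻¹ * p := by group
    exact (Commute.mul_left (Commute.symm h1) (Commute.symm h3)).eq
  have hqfix : aS.1.1 (S.pr q) = S.pr q := by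
    have h1 : s * q * (s * q) = 1 := by
      rw [← hsq, show c * s * c⁻¹ * (c * s * c⁻¹) = c * (s * s) * c⁻¹ by group, ss O]
      group
    have h2 : s * q * s⁻¹ = q⁻¹ := by
      refine eq_inv_of_mul_eq_one_left ?_
      rw [sinv O, mul_assoc (s * q) s q]
      exact h1
    rw [← hu, ← S.act_spec s O.comm q hq, h2, S.toBase.pr_inv hq]
  obtain ⟨w, hw⟩ := aS_range hqfix hperp
  obtain ⟨p, hp, rfl⟩ := S.pr_surj w
  obtain ⟨ht, hte⟩ := range_lift O hp rfl
  have htq : S.pr (s * p * s⁻¹ * p⁻¹) = S.pr q := by rw [hte, hu, hw]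
  have hps : p * s * p⁻¹ = s * (s * p * s⁻¹ * p⁻¹) := by
    rw [sinv O, show s * (s * p * s * p⁻¹) = s * s * (p * s * p⁻¹) by group, ss O, one_mul]
  rcases S.toBase.pr_eq ht hq htq with e | e
  · refine ⟨p⁻¹ * c, (Commute.mul_left (Commute.inv_left (S.toBase.comm hp)) hc).eq, ?_, ?_⟩
    · have : c * s * c⁻¹ = p * s * p⁻¹ := by rw [hsq, e, ← hps]
      calc p⁻¹ * c * s = p⁻¹ * (c * s * c⁻¹) * c := by group
        _ = s * (p⁻¹ * c) := by rw [this]; group
    · rw [S.toBase.act_mul (Commute.inv_left (S.toBase.comm hp)).eq hc, S.toBase.act_inner (inv_mem hp),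
        one_mul]
  · refine absurd ?_ (not_sz O hd hd' h0 hy)
    refine isConj_iff.2 ⟨p⁻¹ * c * g, ?_⟩
    have : c * s * c⁻¹ = p * (s * z) * p⁻¹ := by
      rw [hsq, e, ← mul_assoc, ← hps,
        show p * (s * z) * p⁻¹ = p * s * (z * p⁻¹) by group, ← (Commute.inv_left (S.toBase.comm hp)).eq]
      group
    calc p⁻¹ * c * g * z * (p⁻¹ * c * g)⁻¹ = p⁻¹ * (c * s * c⁻¹) * p := by simp only [s]; group
      _ = cj z g * z := by rw [this]; simp only [s]; group

/-- The case of a line. -/
theorem short_of_line {d : G} (hd : d ∈ oc z) (hd' : d ∈ oc (cj z g)) (h0 : S.pr d ≠ 0) {y : V}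
    (hy : (S.act (cj z g)).1 y + y = S.pr d) (hu : S.act (cj z g) = aS.1) :
    ∃ s, s * z = z * s ∧ s * s = 1 ∧ (S.act s = tS.1 ∨ S.act s = cS.1) := by
  set s := cj z g with hs
  have hsimg : img S s O.comm = aT := by
    rw [← χ_aS]
    exact congrArg χ (Subtype.ext hu)
  have h2 : aT * aT = 1 := by
    rw [← hsimg, ← img_mul S O.comm O.comm (Commute.mul_left O.comm O.comm).eq, img, ← map_one χ]
    exact congrArg χ (Subtype.ext (by
      show S.act (s * s) = 1
      rw [ss O, S.toBase.act_one]))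
  have hne : aT ≠ 1 := fun e => act_ne O (by
    rw [hu]
    exact congrArg Subtype.val (χ_injective S ((χ_aS.trans e).trans (map_one χ).symm)))
  have key : ∃ r, ∃ hr : r ∈ S.toCoW.PA g, img S r (pa_comm hr) ≠ 1 ∧ img S r (pa_comm hr) ≠ aT := by
    by_contra hno
    push Not at hno
    have hD : ∀ d ∈ oc z, d ∈ oc s → ∃ k : Fin 4, S.pr d = dc (8 * k.val) := fun e he he' => by
      have hf : aS.1.1 (S.pr e) = S.pr e := by rw [← hu]; exact cn_fix O (d_cn O he he')
      obtain ⟨w, hw⟩ := aS_range hf fun v hv => by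
        rw [Bp, polar_comm]
        exact d_perp O he he' (all_cn O hd hd' h0 hy (by rw [hu]; exact hv))
      rw [← hw]
      exact aS_disp w
    have hcase : ∀ r : ↥(S.toCoW.PA g), ∃ p : Fin 2 × Fin 4,
        r.1 * s ^ p.1.val ∈ oc z ∧ r.1 * s ^ p.1.val ∈ oc s ∧ S.pr (r.1 * s ^ p.1.val) = dc (8 * p.2.val) := by
      intro r
      have hsp : ∀ b : ℕ, s ^ b ∈ oc s := fun b => pow_mem (mem_oc_self (sset O).ord) b
      by_cases h1 : img S r.1 (pa_comm r.2) = 1
      · have hrz : r.1 ∈ oc z := S.act_ker _ (pa_comm r.2)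
          (congrArg Subtype.val (χ_injective S (h1.trans (map_one χ).symm)))
        obtain ⟨k, hk⟩ := hD _ hrz r.2.1
        exact ⟨(0, k), by simpa using hrz, by simpa using r.2.1, by simpa using hk⟩
      · have h2' := hno r.1 r.2 h1
        have hrs : r.1 * s * z = z * (r.1 * s) := (Commute.mul_left (pa_comm r.2) O.comm).eq
        have hrz : r.1 * s ∈ oc z := S.act_ker _ hrs (by
          have e : img S (r.1 * s) hrs = 1 := by rw [img_mul S (pa_comm r.2) O.comm, h2', hsimg, h2]
          exact congrArg Subtype.val (χ_injective S (e.trans (map_one χ).symm)))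
        have hrs' : r.1 * s ∈ oc s := mul_mem r.2.1 (mem_oc_self (sset O).ord)
        obtain ⟨k, hk⟩ := hD _ hrz hrs'
        exact ⟨(1, k), by simpa using hrz, by simpa using hrs', by simpa using hk⟩
    choose f hf1 hf2 hf3 using hcase
    have hinj : Function.Injective f := fun r t e => by
      have h := d_inj O (hf1 r) (hf2 r) (hf1 t) (hf2 t) (by rw [hf3, hf3, e])
      rw [e] at h
      exact Subtype.ext (mul_right_cancel h)
    have h := Nat.card_le_card_of_injective f hinj
    have h16 := (card_pa_bounds O).1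
    simp at h
    omega
  obtain ⟨r, hr, hr1, hra⟩ := key
  have hmem : ∀ a, ∀ ha : a < 64, ap aT a = a → ∃ m, ∃ hm : m ∈ S.toCoW.PA g,
      img S m (pa_comm hm) = tv (ap (img S r (pa_comm hr)) a) * tv a := by
    intro a ha hfix
    have hcom : tv a * aT = aT * tv a := by
      have h := conj_tv aT ha
      rw [hfix] at h
      exact (mul_inv_eq_iff_eq_mul.1 h).symm
    have hcom' : tO ⟨a, ha⟩ * aS.1 = aS.1 * tO ⟨a, ha⟩ := by
      have e : χ (⟨tO ⟨a, ha⟩, tO_mem _⟩ * aS) = χ (aS * ⟨tO ⟨a, ha⟩, tO_mem _⟩) := by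
        rw [map_mul, map_mul, χ_tO, χ_aS, hcom]
      exact congrArg Subtype.val (χ_injective S e)
    obtain ⟨c, hc, hcs, hce⟩ := lift_cent S O hd hd' h0 hy hu (tO_mem ⟨a, ha⟩) hcom'
    have hci : c⁻¹ * z = z * c⁻¹ := (Commute.inv_left hc).eq
    have hcimg : img S c hc = tv a := by
      rw [← χ_tO ⟨a, ha⟩]
      exact congrArg χ (Subtype.ext hce)
    have hm : r * (c * r⁻¹ * c⁻¹) ∈ S.toCoW.PA g :=
      ⟨mul_mem hr.1 (conj_oc O hcs (inv_mem hr.1)), Subgroup.mem_centralizer_singleton_iff.2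
        (Commute.mul_left (pa_comm hr) (Commute.mul_left
          (Commute.mul_left hc (Commute.inv_left (pa_comm hr))) hci)).eq⟩
    refine ⟨_, hm, ?_⟩
    have hri : r⁻¹ * z = z * r⁻¹ := (Commute.inv_left (pa_comm hr)).eq
    rw [img_mul S (pa_comm hr) (Commute.mul_left (Commute.mul_left hc hri) hci).eq,
      img_mul S (Commute.mul_left hc hri).eq hci, img_mul S hc hri, img_inv S (pa_comm hr), img_inv S hc,
      hcimg, ← conj_tv _ ha, inv_eq_of_mul_eq_one_right (tv_sq ha)]
    group
  have hsquare : ∀ {m : G} (hm : m ∈ S.toCoW.PA g) {g' : Sp},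
      (g' * img S m (pa_comm hm) * g'⁻¹ = tT ∨ g' * img S m (pa_comm hm) * g'⁻¹ = cT) → m * m = 1 := by
    intro m hm g' h
    have hsq : img S m (pa_comm hm) * img S m (pa_comm hm) = 1 := by
      have e3 : ∀ X T : Sp, g' * X * g'⁻¹ = T → T * T = 1 → X * X = 1 := fun X T e hT => by
        rw [show X * X = g'⁻¹ * (g' * X * g'⁻¹ * (g' * X * g'⁻¹)) * g' by group, e, hT]
        group
      have hc : cT * cT = 1 := by
        rw [cT, mul_assoc, ← mul_assoc (tv 3), ← tv_two_three, mul_assoc (tv 2), tv_sq (by norm_num), mul_one,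
          tv_sq (by norm_num)]
      rcases h with e | e
      · exact e3 _ _ e (tv_sq (by norm_num))
      · exact e3 _ _ e hc
    refine (pa_square S O hm).resolve_right fun e => hne ?_
    have hmz : m * m * z = z * (m * m) := (Commute.mul_left (pa_comm hm) (pa_comm hm)).eq
    rw [← hsimg, ← hsq, ← img_mul S (pa_comm hm) (pa_comm hm) hmz]
    simp only [img, hs, e]
  rcases normal_cases hr1 hra (fun a ha hfix => by
    obtain ⟨m, hm, e⟩ := hmem a ha hfix
    rw [← e, ← img_pow S (pa_comm hm) 4 (Commute.pow_left (pa_comm hm) 4).eq, img, ← map_one χ]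
    refine congrArg χ (Subtype.ext ?_)
    show S.act (m ^ 4) = 1
    rw [pa_four S O hm, S.toBase.act_one]) with ⟨g', hg'⟩ | ⟨a, ha, hfix, g', hg'⟩
  · exact exists_of_short S (pa_comm hr) (hsquare hr hg') hg'
  · obtain ⟨m, hm, e⟩ := hmem a ha hfix
    rw [← e] at hg'
    exact exists_of_short S (pa_comm hm) (hsquare hm (Or.inr hg')) (Or.inr hg')

omit O

/-- An involution over a transvection or over a product of two commuting ones. -/
theorem exists_invol (hni : ¬ IsIsolatedInvolution z) :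
    ∃ s, s * z = z * s ∧ s * s = 1 ∧ (S.act s = tS.1 ∨ S.act s = cS.1) := by
  obtain ⟨g, O⟩ : ∃ g, S.toCoW.Out g := by
    by_contra h
    push Not at h
    exact hni ⟨S.sett.ord, fun g hg => by
      by_contra hne
      exact h g ⟨hg.symm.eq, fun hm => hne (S.weak g hm)⟩⟩
  have hNR : ¬ S.toCoW.NR := fun hNR => no_out hNR O
  simp only [CoW.NR, not_forall] at hNR
  obtain ⟨g, O, d, hd, hd', y, hy, h0⟩ := hNR
  have hsq : img S (cj z g) O.comm * img S (cj z g) O.comm = 1 := by
    rw [← img_mul S O.comm O.comm (Commute.mul_left O.comm O.comm).eq, img, ← map_one χ]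
    refine congrArg χ (Subtype.ext ?_)
    show S.act (cj z g * cj z g) = 1
    rw [ss O, S.toBase.act_one]
  have hne : img S (cj z g) O.comm ≠ 1 := fun e =>
    act_ne O (congrArg Subtype.val (χ_injective S (e.trans (map_one χ).symm)))
  obtain ⟨g₀, hg₀⟩ := invol_classes hsq hne
  rcases hg₀ with e | e | e | e
  · exact exists_of_short S O.comm (ss O) (Or.inl e)
  · exact exists_of_short S O.comm (ss O) (Or.inr e)
  all_goals
    obtain ⟨c, hc, hcg⟩ := exists_img S g₀
    obtain ⟨O₁, hact⟩ := shift O hc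
    have hs₁ : cj z (c * g) = c * cj z g * c⁻¹ := by group
    have hci : c⁻¹ * z = z * c⁻¹ := (Commute.inv_left hc).eq
    have hd₁ : c * d * c⁻¹ ∈ oc z := S.toBase.nrm hc hd
    have hd₁' : c * d * c⁻¹ ∈ oc (cj z (c * g)) := by rw [hs₁]; exact conj_mem_oc hd'
    have hpr : S.pr (c * d * c⁻¹) = (S.act c).1 (S.pr d) := S.act_spec c hc d hd
    have h0₁ : S.pr (c * d * c⁻¹) ≠ 0 := fun e0 => h0 ((S.act c).1.map_eq_zero_iff.1 (hpr.symm.trans e0))
    have hy₁ : (S.act (cj z (c * g))).1 ((S.act c).1 y) + (S.act c).1 y = S.pr (c * d * c⁻¹) := by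
      rw [hact, oG_mul_apply, oG_mul_apply, oG_inv_apply, ← map_add, hy, hpr]
  · have hu : S.act (cj z (c * g)) = aS.1 := by
      refine act_eq_of_img S O₁.comm ?_
      rw [χ_aS, ← e, ← hcg, ← img_inv S hc hci, ← img_mul S hc O.comm (Commute.mul_left hc O.comm).eq,
        ← img_mul S (Commute.mul_left hc O.comm).eq hci (hs₁ ▸ O₁.comm)]
      simp only [img, hs₁]
    exact short_of_line S O₁ hd₁ hd₁' h0₁ hy₁ hu
  · have hu : S.act (cj z (c * g)) = bS.1 := by
      refine act_eq_of_img S O₁.comm ?_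
      rw [χ_bS, ← e, ← hcg, ← img_inv S hc hci, ← img_mul S hc O.comm (Commute.mul_left hc O.comm).eq,
        ← img_mul S (Commute.mul_left hc O.comm).eq hci (hs₁ ▸ O₁.comm)]
      simp only [img, hs₁]
    obtain ⟨w, hw⟩ := bS_nonsing
    rw [← hu] at hw
    refine absurd (all_cn O₁ hd₁ hd₁' h0₁ hy₁ ?_) (not_cn_range O₁ w hw)
    rw [map_add, ← oG_mul_apply, act_sq O₁, oG_one_apply, add_comm]

include S in
/-- The involution of a simple group is not isolated. -/
theorem not_isolated [IsSimpleGroup G] : ¬ IsIsolatedInvolution z := by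
  intro h
  have hsup := Fi24Cent.centralizer_sup_oddCore h
  have hO : oddCore G = ⊥ := by
    refine (Subgroup.Normal.eq_bot_or_eq_top inferInstance).resolve_right fun e => ?_
    have hc := Core.coprime_card_pPrimeCore (p := 2) (G := G)
    rw [show pPrimeCore 2 G = ⊤ from e, Subgroup.card_top] at hc
    have h2 : orderOf z ∣ Nat.card G := orderOf_dvd_natCard z
    rw [S.sett.ord] at h2
    exact absurd (Nat.dvd_gcd h2 (dvd_refl 2)) (by rw [hc.gcd_eq_one]; norm_num)
  rw [hO, sup_bot_eq] at hsup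
  have hzc : z ∈ Subgroup.center G := Subgroup.mem_center_iff.2 fun x =>
    Subgroup.mem_centralizer_singleton_iff.1 (hsup ▸ Subgroup.mem_top x)
  have hzne : (Subgroup.center G) ≠ ⊥ := fun e => S.toBase.zne (Subgroup.mem_bot.1 (e ▸ hzc))
  have htop : Subgroup.center G = ⊤ :=
    (Subgroup.Normal.eq_bot_or_eq_top inferInstance).resolve_left hzne
  have hcard : Nat.card G = 512 * 1451520 := by rw [← S.cent_card, hsup, Subgroup.card_top]
  have hZ : Subgroup.zpowers z = ⊤ := by
    have : (Subgroup.zpowers z).Normal := ⟨fun n _ x => by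
      rwa [Subgroup.mem_center_iff.1 (htop ▸ Subgroup.mem_top n) x, mul_inv_cancel_right]⟩
    refine (Subgroup.Normal.eq_bot_or_eq_top this).resolve_left fun e => S.toBase.zne ?_
    exact Subgroup.zpowers_eq_bot.1 e
  have := Nat.card_zpowers z
  rw [hZ, Subgroup.card_top, S.sett.ord, hcard] at this
  omega

end Cfsg.Agent.CoTwoType
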