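import Cfsg.Agent.Classical.OrthGen

/-!
Transvection operators of `Sp(6, 2)` on an eight-dimensional orthogonal space over the field with two
elements: the Clifford identities, and the frames.

A vector of the six-dimensional space is coded by six bits, bit `i < 3` paired with bit `i + 3`.
-/

set_option autoImplicit false
set_option linter.unusedSectionVars false

open QuadraticMap Cfsg.Agent.Classical.Quad

namespace Cfsg.Agent.CoTwoType

/-- The symplectic form on codes. -/
def s6 (a b : ℕ) : Bool :=
  (((a.testBit 0 && b.testBit 3) != (a.testBit 3 && b.testBit 0)) !=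
    ((a.testBit 1 && b.testBit 4) != (a.testBit 4 && b.testBit 1))) !=
    ((a.testBit 2 && b.testBit 5) != (a.testBit 5 && b.testBit 2))

/-- The transvection of centre `a` on codes. -/
def tS (a b : Fin 64) : Fin 64 := if s6 a.val b.val then a ^^^ b else b

theorem tS_comm : ∀ a b : Fin 64, s6 a.val b.val = true → tS a b = tS b a ∧ tS a b ≠ a := by decide +kernel

theorem tS_perp {a b : Fin 64} (h : s6 a.val b.val = false) : tS a b = b := by simp [tS, h]

variable {V : Type*} [AddCommGroup V] [Module (ZMod 2) V] [Finite V]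

/-- A representation of the transvections. -/
structure TRep (Q : QuadraticForm (ZMod 2) V) where
  nondeg : (polarBilin Q).Nondegenerate
  card : Nat.card V = 256
  /-- the images of the transvections -/
  t : Fin 64 → oG Q
  inj : Function.Injective t
  sq : ∀ a, t a * t a = 1
  rel : ∀ a b, t a * t b * t a = t (tS a b)
  par : ∀ a, Nat.card ↥(LinearMap.range ((t a).1.toLinearMap + 1)) ≠ 2

/-- Three hyperbolic pairs, with the code maps swapping two of them. -/
structure Frame (a b : Fin 3 → Fin 64) : Prop where
  aa : ∀ i j, s6 (a i).val (a j).val = false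
  bb : ∀ i j, s6 (b i).val (b j).val = false
  ab : ∀ i j, s6 (a i).val (b j).val = decide (i = j)
  swap : ∀ i j k, i ≠ j → k ≠ i → k ≠ j →
    let f := fun x => tS (a i ^^^ a j) (tS (b i ^^^ b j) (tS ((a i ^^^ a j) ^^^ (b i ^^^ b j)) x))
    f (a i) = a j ∧ f (b i) = b j ∧ f (a j) = a i ∧ f (b j) = b i ∧ f (a k) = a k ∧ f (b k) = b k

namespace TRep

variable {Q : QuadraticForm (ZMod 2) V} (R : TRep Q)

theorem add_self (x : V) : x + x = 0 := ZModModule.add_self x

theorem op_add_self (f : Module.End (ZMod 2) V) : f + f = 0 := LinearMap.ext fun x => add_self (f x)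

/-- The transvection as an operator. -/
def T (a : Fin 64) : Module.End (ZMod 2) V := (R.t a).1.toLinearMap

/-- The nilpotent part. -/
def N (a : Fin 64) : Module.End (ZMod 2) V := R.T a + 1

theorem T_eq (a : Fin 64) : R.T a = R.N a + 1 := by rw [N, add_assoc, op_add_self, add_zero]

theorem T_mul (a b : Fin 64) : R.T a * R.T b = ((R.t a * R.t b : oG Q).1.toLinearMap) := rfl

theorem T_sq (a : Fin 64) : R.T a * R.T a = 1 := by rw [T_mul, R.sq]; rfl

theorem N_sq (a : Fin 64) : R.N a * R.N a = 0 := by
  rw [N, add_mul, mul_add, T_sq, mul_one, one_mul, add_comm (R.T a) 1, ← add_assoc]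
  rw [add_assoc (1 : Module.End (ZMod 2) V) (R.T a) 1, add_comm (R.T a) 1, ← add_assoc,
    op_add_self, zero_add, op_add_self]

theorem T_rel (a b : Fin 64) : R.T a * R.T b * R.T a = R.T (tS a b) := by
  show ((R.t a * R.t b * R.t a : oG Q).1.toLinearMap) = _
  rw [R.rel]; rfl

theorem N_conj (a b : Fin 64) : R.T a * R.N b * R.T a = R.N (tS a b) := by
  rw [N, N, mul_add, add_mul, T_rel, mul_one, T_sq]

theorem T_comm {a b : Fin 64} (h : s6 a.val b.val = false) : R.T a * R.T b = R.T b * R.T a := by
  have e := R.T_rel a b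
  rw [tS_perp h] at e
  calc R.T a * R.T b = R.T a * R.T b * R.T a * R.T a := by rw [mul_assoc _ (R.T a) (R.T a), T_sq, mul_one]
    _ = R.T b * R.T a := by rw [e]

theorem N_comm {a b : Fin 64} (h : s6 a.val b.val = false) : R.N a * R.N b = R.N b * R.N a := by
  simp only [N, add_mul, mul_add, one_mul, mul_one, R.T_comm h]; abel

/-- The anticommutator. -/
def P (a b : Fin 64) : Module.End (ZMod 2) V := R.N a * R.N b + R.N b * R.N a

theorem T_comm_iff {a b : Fin 64} (h : R.N a * R.N b = R.N b * R.N a) : tS a b = b := by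
  have e : R.T a * R.T b = R.T b * R.T a := by
    simp only [T_eq, add_mul, mul_add, one_mul, mul_one, h]; abel
  have e2 : R.T (tS a b) = R.T b := by rw [← T_rel, e, mul_assoc, T_sq, mul_one]
  exact R.inj (Subtype.ext (LinearEquiv.toLinearMap_injective e2))

theorem braid {a b : Fin 64} (h : s6 a.val b.val = true) :
    R.N a * R.N b * R.N a + R.N a = R.N b * R.N a * R.N b + R.N b := by
  have expand : ∀ x y : Fin 64, R.T x * R.T y * R.T x =
      (R.N x * R.N y * R.N x + R.N x) + (R.N x * R.N y + R.N y * R.N x + R.N x + R.N y + 1) := by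
    intro x y
    simp only [T_eq, add_mul, mul_add, one_mul, mul_one, N_sq]
    abel
  have e : R.T a * R.T b * R.T a = R.T b * R.T a * R.T b := by
    rw [T_rel, T_rel, (tS_comm a b h).1]
  rw [expand, expand, show R.N b * R.N a + R.N a * R.N b + R.N b + R.N a + 1 =
    R.N a * R.N b + R.N b * R.N a + R.N a + R.N b + 1 by abel] at e
  exact add_right_cancel e

theorem NPN {a b : Fin 64} (h : s6 a.val b.val = true) :
    R.N a * R.N b * R.N a * R.N b = R.N a * R.N b := by
  have e := congrArg (fun f => R.N a * f) (R.braid h)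
  simp only [mul_add, ← mul_assoc, N_sq, zero_mul, zero_add] at e
  calc R.N a * R.N b * R.N a * R.N b
      = R.N a * R.N b * R.N a * R.N b + (R.N a * R.N b + R.N a * R.N b) := by rw [op_add_self, add_zero]
    _ = (R.N a * R.N b * R.N a * R.N b + R.N a * R.N b) + R.N a * R.N b := by abel
    _ = R.N a * R.N b := by rw [← e, zero_add]

theorem s6_comm : ∀ a b : Fin 64, s6 a.val b.val = s6 b.val a.val := by decide +kernel

theorem P_idem {a b : Fin 64} (h : s6 a.val b.val = true) : R.P a b * R.P a b = R.P a b := by
  have h' : s6 b.val a.val = true := s6_comm a b ▸ h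
  simp only [P, add_mul, mul_add, ← mul_assoc, R.NPN h, R.NPN h']
  simp only [mul_assoc (R.N a * R.N b) (R.N b) _, mul_assoc (R.N b * R.N a) (R.N a) _]
  simp only [mul_assoc, N_sq, mul_zero, zero_mul, add_zero, zero_add]
  simp [← mul_assoc, mul_assoc (R.N a) (R.N b) (R.N b), mul_assoc (R.N b) (R.N a) (R.N a), N_sq]

theorem P_comm_left (a b : Fin 64) : R.N a * R.P a b = R.P a b * R.N a := by
  simp only [P, add_mul, mul_add, ← mul_assoc, N_sq, zero_mul, zero_add]
  simp only [mul_assoc, N_sq, mul_zero, add_zero]

theorem P_comm_right (a b : Fin 64) : R.N b * R.P a b = R.P a b * R.N b := by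
  have := R.P_comm_left b a
  rwa [show R.P b a = R.P a b from add_comm _ _] at this

theorem P_comm_of {a b c : Fin 64} (h1 : s6 c.val a.val = false) (h2 : s6 c.val b.val = false) :
    R.N c * R.P a b = R.P a b * R.N c := by
  have e1 := R.N_comm h1
  have e2 := R.N_comm h2
  simp only [P, add_mul, mul_add]
  congr 1
  · rw [← mul_assoc, e1, mul_assoc, e2, ← mul_assoc]
  · rw [← mul_assoc, e2, mul_assoc, e1, ← mul_assoc]

theorem P_ne_zero {a b : Fin 64} (h : s6 a.val b.val = true) : R.P a b ≠ 0 := by
  intro e
  have hc : R.N a * R.N b = R.N b * R.N a := by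
    calc R.N a * R.N b = R.N a * R.N b + (R.N b * R.N a + R.N b * R.N a) := by rw [op_add_self, add_zero]
      _ = R.P a b + R.N b * R.N a := by rw [P]; abel
      _ = R.N b * R.N a := by rw [e, zero_add]
  have h1 := R.T_comm_iff hc.symm
  rw [← (tS_comm a b h).1] at h1
  exact (tS_comm a b h).2 h1

/-- The nilpotent parts are self-adjoint. -/
theorem N_adjoint (a : Fin 64) (x y : V) : polar Q (R.N a x) y = polar Q x (R.N a y) := by
  have h : polar Q (R.T a x) y = polar Q x (R.T a y) := by
    conv_lhs => rw [← show R.T a (R.T a y) = y from LinearMap.congr_fun (R.T_sq a) y]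
    exact polar_oG (R.t a) x (R.T a y)
  show polar Q (R.T a x + x) y = polar Q x (R.T a y + y)
  rw [polar_add_left, polar_add_right, h]

/-- The value of the form on the image of a nilpotent part. -/
theorem q_N (a : Fin 64) (x : V) : Q (R.N a x) = polar Q x (R.N a x) := by
  have h : Q (R.T a x) = Q x := (R.t a).2 x
  have e : R.T a x = R.N a x + x := by rw [R.T_eq]; rfl
  rw [e, QuadraticMap.map_add Q] at h
  rw [polar_comm]
  have := (by decide : ∀ p q r : ZMod 2, p + q + r = q → p = r) _ _ _ h
  exact this

include R in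
theorem eq_zero_of_perp {x : V} (h : ∀ y, polar Q x y = 0) : x = 0 :=
  R.nondeg.1 x fun y => h y

end TRep

end Cfsg.Agent.CoTwoType
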