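import Cfsg.Agent.LargeExtra.OutExtra
import Cfsg.Agent.Classical.OrthSpinor
import Cfsg.Agent.Classical.QuadStd
import Cfsg.Agent.Classical.OrthMat

/-!
The two extraspecial groups of order `2^9`: the quadratic forms on their central quotients, the action
of the automorphisms, and the size of the even stabiliser of a non-singular vector.
-/

set_option autoImplicit false
set_option linter.unusedSectionVars false
set_option maxRecDepth 100000

open Cfsg QuadraticMap Cfsg.Agent.Classical.Quad Cfsg.Agent.LargeExtra Module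

namespace Cfsg.Agent.CoTwoType

variable (c : ZMod 2)

/-- The cocycle as a bilinear form. -/
def hbB : LinearMap.BilinForm (ZMod 2) (HV 3) :=
  LinearMap.mk₂ (ZMod 2) (hbeta c) (hbeta_add_left c)
    (fun a v w => by
      rcases (by decide : ∀ a : ZMod 2, a = 0 ∨ a = 1) a with rfl | rfl
      · rw [zero_smul, Heis.hbeta_zero_left, zero_smul]
      · rw [one_smul, one_smul])
    (hbeta_add_right c)
    (fun a v w => by
      rcases (by decide : ∀ a : ZMod 2, a = 0 ∨ a = 1) a with rfl | rfl
      · rw [zero_smul, Heis.hbeta_zero_right, zero_smul]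
      · rw [one_smul, one_smul])

/-- The quadratic form. -/
def qH : QuadraticForm (ZMod 2) (HV 3) := (hbB c).toQuadraticMap

theorem qH_apply (v : HV 3) : qH c v = hbeta c v v := rfl

theorem polar_qH (v w : HV 3) : polar (qH c) v w = hB v w := by
  rw [← hbeta_symm_add c v w]
  exact LinearMap.BilinMap.polar_toQuadraticMap (B := hbB c) v w

theorem qH_nondeg : (polarBilin (qH c)).Nondegenerate := by
  constructor
  · intro v h
    exact hB_nondeg fun w => by rw [← polar_qH c]; exact h w
  · intro v h
    exact hB_nondeg fun w => by rw [← polar_qH c, polar_comm]; exact h w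

theorem finrank_HV3 : finrank (ZMod 2) (HV 3) = 8 := by simp

theorem hex8 : Nat.card (ZMod 2) ≠ 2 ∨ finrank (ZMod 2) (HV 3) ≠ 4 := Or.inr (by rw [finrank_HV3]; norm_num)

/-- The action of an automorphism. -/
def qmap : MulAut (Heis 3 c) →* oG (qH c) where
  toFun φ := ⟨LinearEquiv.ofLinearMap ((Heis.quotMap φ).toZModLinearMap 2) ((Heis.quotMap φ⁻¹).toZModLinearMap 2)
      (LinearMap.ext fun v => by
        show Heis.quotMap φ (Heis.quotMap φ⁻¹ v) = v
        rw [← Heis.quotMap_mul, mul_inv_cancel, Heis.quotMap_one])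
      (LinearMap.ext fun v => by
        show Heis.quotMap φ⁻¹ (Heis.quotMap φ v) = v
        rw [← Heis.quotMap_mul, inv_mul_cancel, Heis.quotMap_one]),
    fun v => Heis.quotMap_form φ v⟩
  map_one' := Subtype.ext (LinearEquiv.ext fun v => Heis.quotMap_one (c := c) v)
  map_mul' φ ψ := Subtype.ext (LinearEquiv.ext (Heis.quotMap_mul φ ψ))

theorem qmap_apply (φ : MulAut (Heis 3 c)) (x : Heis 3 c) : (qmap c φ).1 x.v = (φ x).v := by
  rw [Heis.apply_v]; rfl

theorem qmap_ker : (qmap c).ker ≤ Cfsg.Inn (Heis 3 c) := by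
  intro φ hφ
  rw [← Heis.isoHom_ker (Heis.plusCoordH 3) (Q := fun x => hbeta c (Heis.plusCoordH 3 x) (Heis.plusCoordH 3 x))
    fun _ => rfl, MonoidHom.mem_ker]
  refine Subtype.ext (Units.ext (Matrix.ext_of_mulVec_single fun i => ?_))
  rw [Heis.isoHom_mulVec, Heis.coordMap_apply]
  have h : ∀ v, Heis.quotMap φ v = v := fun v =>
    congrArg (fun g : oG (qH c) => g.1 v) (MonoidHom.mem_ker.1 hφ)
  simp [h]
  funext j
  simp [Pi.single_apply, Matrix.col, Matrix.one_apply]

/-- The number of non-singular vectors. -/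
def nNS : ℕ := if c = 0 then 120 else 136

theorem card_nonsingular : Nat.card {v : HV 3 // qH c v = 1} = nNS c := by
  rw [Nat.subtype_card (Finset.univ.filter fun v : HV 3 => hbeta c v v = 1) fun v => by simp [qH_apply]]
  revert c
  decide +kernel

theorem card_oG_qH : Nat.card (oG (qH c)) = nNS c * 2903040 := by
  rcases (by decide : ∀ c : ZMod 2, c = 0 ∨ c = 1) c with rfl | rfl
  · rw [← card_isometryGroup_eq (Q := qH 0) (Heis.plusCoordH 3) (fun x => (Heis.plusCoordH_form 3 x).symm),
      card_isometryGroup_eq (plusCoord 4) (plusCoord_map 4), card_oG_plus (ZMod.card 2) 3]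
    norm_num [Finset.prod_range_succ, nNS]
  · rw [← card_isometryGroup_eq (Q := qH 1) (Heis.minusCoordH 3) (fun x => (Heis.minusCoordH_form 3 x).symm),
      card_isometryGroup_eq (minusCoord 3) (minusCoord_map 1 1 3),
      card_oG_minus (by decide +kernel) (ZMod.card 2) 3]
    norm_num [Finset.prod_range_succ, nNS]

/-- The even isometries fixing `v`. -/
noncomputable def evenStab (v : HV 3) : Subgroup (oG (qH c)) where
  carrier := {g | g.1 v = v ∧ dickson (qH_nondeg c) hex8 g = 1}
  one_mem' := ⟨rfl, map_one _⟩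
  mul_mem' := fun {g h} hg hh => ⟨by rw [oG_mul_apply, hh.1, hg.1], by rw [map_mul, hg.2, hh.2, mul_one]⟩
  inv_mem' := fun {g} hg => ⟨by
    conv_lhs => rw [← hg.1]
    rw [← oG_mul_apply, inv_mul_cancel]; rfl, by rw [map_inv, hg.2, inv_one]⟩

instance : Finite (oG (qH c)) :=
  Finite.of_injective (fun g : oG (qH c) => ((g.1 : HV 3 → HV 3)))
    fun g h e => Subtype.ext (DFunLike.coe_injective e)

theorem card_evenStab_le {v : HV 3} (hv : qH c v = 1) : Nat.card ↥(evenStab c v) ≤ 1451520 := by
  classical
  have hv0 : qH c v ≠ 0 := by rw [hv]; exact one_ne_zero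
  set r : oG (qH c) := rO hv0
  have hrv : r.1 v = v := by
    rw [rO_apply, polar_self, two_smul, (by decide : ∀ p : ZMod 2, p + p = 0)]; simp
  have htrans : ∀ x : {x : HV 3 // qH c x = 1}, ∃ g : oG (qH c), g.1 v = x.1 := fun x => by
    have hne : ∀ {y : HV 3}, qH c y = 1 → y ≠ 0 := fun hy h => by rw [h, map_zero] at hy; exact zero_ne_one hy
    obtain ⟨g, hg, hgv⟩ := witt_family (qH_nondeg c) 1 (fun _ => v) (fun _ => x.1)
      (linearIndependent_unique_iff.2 (hne hv)) (linearIndependent_unique_iff.2 (hne x.2))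
      (fun _ => hv.trans x.2.symm) (fun _ _ => by rw [polar_self, polar_self, hv, x.2])
    exact ⟨⟨g, hg⟩, hgv 0⟩
  choose g hg using htrans
  have key := Nat.card_le_card_of_injective
    (fun p : ({x : HV 3 // qH c x = 1} × ↥(evenStab c v)) × Bool =>
      g p.1.1 * p.1.2.1 * (if p.2 then r else 1)) (by
    rintro ⟨⟨x, s⟩, i⟩ ⟨⟨y, t⟩, j⟩ e
    dsimp only at e
    have hx : x = y := by
      refine Subtype.ext ?_
      have h := congrArg (fun f : oG (qH c) => f.1 v) e
      cases i <;> cases j <;>
        simpa [oG_mul_apply, hrv, s.2.1, t.2.1, hg] using h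
    subst hx
    rw [mul_assoc, mul_assoc] at e
    have e' := mul_left_cancel e
    have hij : i = j := by
      have hd := congrArg (dickson (qH_nondeg c) hex8) e'
      rw [map_mul, map_mul, s.2.2, t.2.2, one_mul, one_mul] at hd
      cases i <;> cases j <;> simp only [Bool.false_eq_true, ↓reduceIte, map_one, r, dickson_rO] at hd <;>
        first | rfl | exact absurd hd (by decide)
    subst hij
    rw [Subtype.ext (mul_right_cancel e')])
  rw [Nat.card_prod, Nat.card_prod, card_nonsingular, card_oG_qH, Nat.card_eq_fintype_card (α := Bool),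
    Fintype.card_bool, mul_assoc] at key
  have := Nat.le_of_mul_le_mul_left key (by rw [nNS]; split_ifs <;> norm_num)
  omega

end Cfsg.Agent.CoTwoType
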