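import Cfsg.Agent.LargeExtra.SingularSubgroup

/-!
An extraspecial `O_2(C(z))` with a normal cyclic subgroup of order four: if `z` is weakly closed in
it, then `z` is isolated.
-/

set_option autoImplicit false

open Cfsg Subgroup Cfsg.Agent.LargeExtra

namespace Cfsg.Agent.CoTwoType

variable {G : Type*} [Group G] [Finite G]

/-- A subgroup in which any two elements outside `B` multiply into `B` is at most twice its meet
with `B`. -/
theorem card_le_two_inf {H B : Subgroup G} (h : ∀ a ∈ H, ∀ b ∈ H, a ∉ B → b ∉ B → a * b ∈ B) :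
    Nat.card ↥H ≤ 2 * Nat.card ↥(H ⊓ B : Subgroup G) := by
  by_cases hall : ∀ a ∈ H, a ∈ B
  · rw [inf_eq_left.2 hall]; omega
  push Not at hall
  obtain ⟨a, ha, haB⟩ := hall
  classical
  have hm : ∀ b : ↥H, (b : G) ∉ B → a * b ∈ H ⊓ B := fun b hb => ⟨mul_mem ha b.2, h a ha b b.2 haB hb⟩
  have key := Nat.card_le_card_of_injective
    (fun b : ↥H => if hb : (b : G) ∈ B then ((⟨b, b.2, hb⟩ : ↥(H ⊓ B : Subgroup G)), false)
      else (⟨a * b, hm b hb⟩, true)) (by
    intro b b' e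
    dsimp only at e
    split_ifs at e <;> simp only [Prod.mk.injEq, Subtype.mk.injEq, reduceCtorEq, and_false, and_true] at e
    · exact Subtype.ext (congrArg (fun t : ↥(H ⊓ B : Subgroup G) => (t : G)) e)
    · exact Subtype.ext (mul_left_cancel e))
  rw [Nat.card_prod, Nat.card_eq_fintype_card (α := Bool), Fintype.card_bool] at key
  omega

section

variable {z : G} (S : Setting z)
include S

theorem pm_mul_self {a : G} (ha : a = 1 ∨ a = z) : a * a = 1 := by
  rcases ha with rfl | rfl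
  · exact one_mul 1
  · exact S.sq_one

theorem pm_comm {a x : G} (ha : a = 1 ∨ a = z) (hx : x * z = z * x) : x * a = a * x := by
  rcases ha with rfl | rfl
  · rw [mul_one, one_mul]
  · exact hx

/-- The elements of `O_2(C(z))` fixed by `c` modulo `z`. -/
def kf (c : G) : Subgroup G where
  carrier := {r | r ∈ oc z ∧ ∃ a, (a = 1 ∨ a = z) ∧ c * r * c⁻¹ = r * a}
  one_mem' := ⟨one_mem _, 1, Or.inl rfl, by group⟩
  mul_mem' := by
    rintro r r' ⟨hr, a, ha, e⟩ ⟨hr', b, hb, e'⟩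
    refine ⟨mul_mem hr hr', a * b, ?_, ?_⟩
    · rcases ha with rfl | rfl <;> rcases hb with rfl | rfl <;> simp [S.sq_one]
    · calc c * (r * r') * c⁻¹ = (c * r * c⁻¹) * (c * r' * c⁻¹) := by group
        _ = r * (a * r') * b := by rw [e, e']; group
        _ = r * r' * (a * b) := by rw [← pm_comm S ha (S.comm_z hr').eq]; group
  inv_mem' := by
    rintro r ⟨hr, a, ha, e⟩
    refine ⟨inv_mem hr, a, ha, ?_⟩
    rw [show c * r⁻¹ * c⁻¹ = (c * r * c⁻¹)⁻¹ by group, e, mul_inv_rev,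
      inv_eq_of_mul_eq_one_right (pm_mul_self S ha),
      pm_comm S ha ((Commute.inv_left (S.comm_z hr)).eq)]

theorem kf_le {c r : G} (hr : r ∈ kf S c) : r ∈ oc z := hr.1

theorem kf_of_fix {c r : G} (hr : r ∈ oc z) (h : c * r = r * c) : r ∈ kf S c :=
  ⟨hr, 1, Or.inl rfl, by rw [h, mul_inv_cancel_right, mul_one]⟩

/-- The elements of `O_2(C(z))` commuting with every element of `A`. -/
def perp (z : G) (A : Subgroup G) : Subgroup G := oc z ⊓ centralizer (A : Set G)

/-- The orthogonal of `A` is small. -/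
theorem card_perp_le {A : Subgroup G} (hA : A ≤ oc z) (hz : z ∈ A) :
    Nat.card ↥(perp z A) * Nat.card ↥A ≤ 2 * Nat.card ↥(oc z) := by
  classical
  obtain ⟨H, -, ⟨hHA, hzH, hH⟩, hmax⟩ := Finite.exists_le_maximal
    (p := fun H : Subgroup G => H ≤ A ∧ z ∈ H ∧
      Nat.card ↥(perp z H) * Nat.card ↥H ≤ 2 * Nat.card ↥(oc z))
    (a := zpowers z) ⟨zpowers_le.2 hz, mem_zpowers z, by
      rw [Nat.card_zpowers, S.ord, mul_comm]
      exact Nat.mul_le_mul_left 2 (Nat.card_mono (Set.toFinite _)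
        (inf_le_left : perp z (zpowers z) ≤ oc z))⟩
  suffices A ≤ H by rwa [le_antisymm this hHA]
  by_contra hne
  obtain ⟨x, hxA, hxH⟩ := SetLike.not_le_iff_exists.1 hne
  have hHQ := hHA.trans hA
  obtain ⟨q, hq, hqH, hqx⟩ := S.exists_mover_fixing hHQ hzH (hA hxA) hxH
  set H' := H ⊔ zpowers x
  have hH'A : H' ≤ A := sup_le hHA (zpowers_le.2 hxA)
  have hxx : x * x ∈ H := by
    have := Fact.mk Nat.prime_two
    have h1 := Fusion.es_pow_mem_center S.es (⟨x, hA hxA⟩ : ↥(oc z))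
    rcases S.center_cases (mul_mem (hA hxA) (hA hxA)) (fun p hp => by
      have h2 := congrArg Subtype.val (mem_center_iff.1 h1 ⟨p, hp⟩)
      simp only [pow_two, Subgroup.coe_mul] at h2
      exact h2) with e | e <;> rw [e]
    exacts [one_mem _, hzH]
  have hnx : ∀ h ∈ H, x * h * x⁻¹ ∈ H := fun h hh => by
    rcases S.commutator_cases (hA hxA) (hHQ hh) with e | e
    · rw [mul_inv_eq_one.1 e]; exact hh
    · rw [mul_inv_eq_iff_eq_mul.1 e]; exact mul_mem hzH hh
  have hmem : ∀ a ∈ H', a ∈ H ∨ a * x⁻¹ ∈ H := by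
    intro a ha
    let U : Subgroup G :=
      { carrier := {a | a ∈ H ∨ a * x⁻¹ ∈ H}
        one_mem' := Or.inl (one_mem _)
        mul_mem' := by
          rintro a b (ha | ha) (hb | hb)
          · exact Or.inl (mul_mem ha hb)
          · exact Or.inr (by rw [mul_assoc]; exact mul_mem ha hb)
          · refine Or.inr ?_
            rw [show a * b * x⁻¹ = (a * x⁻¹) * (x * b * x⁻¹) by group]
            exact mul_mem ha (hnx b hb)
          · refine Or.inl ?_
            rw [show a * b = (a * x⁻¹) * (x * (b * x⁻¹) * x⁻¹) * (x * x) by group]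
            exact mul_mem (mul_mem ha (hnx _ hb)) hxx
        inv_mem' := by
          rintro a (ha | ha)
          · exact Or.inl (inv_mem ha)
          · refine Or.inr ?_
            rw [show a⁻¹ * x⁻¹ = (x * x)⁻¹ * (x * (a * x⁻¹)⁻¹ * x⁻¹) by group]
            exact mul_mem (inv_mem hxx) (hnx _ (inv_mem ha)) }
    exact (show H' ≤ U from sup_le (fun a ha => Or.inl ha)
      (zpowers_le.2 (Or.inr (by rw [mul_inv_cancel]; exact one_mem _)))) ha
  have hcard' : Nat.card ↥H' ≤ 2 * Nat.card ↥H := by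
    have h1 := card_le_two_inf (H := H') (B := H) fun a ha b hb hna hnb => by
      have h2 := (hmem a ha).resolve_left hna
      have h3 := (hmem b hb).resolve_left hnb
      rw [show a * b = (a * x⁻¹) * (x * (b * x⁻¹) * x⁻¹) * (x * x) by group]
      exact mul_mem (mul_mem h2 (hnx _ h3)) hxx
    exact h1.trans (Nat.mul_le_mul_left 2 (Nat.card_mono (Set.toFinite _) inf_le_right))
  have hperp : 2 * Nat.card ↥(perp z H') ≤ Nat.card ↥(perp z H) := by
    have hqP : q ∈ perp z H := ⟨hq, mem_centralizer_iff.2 fun h hh => (hqH h hh).eq.symm⟩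
    have hle : perp z H' ≤ perp z H := inf_le_inf_left _ (centralizer_le (SetLike.coe_subset_coe.2 le_sup_left))
    have hqn : q ∉ perp z H' := fun h => by
      have h2 := mem_centralizer_iff.1 h.2 x (mem_sup_right (mem_zpowers x))
      rw [← h2, mul_inv_cancel_right] at hqx
      exact S.ne_one (mul_eq_right.1 hqx.symm)
    obtain ⟨m, hm⟩ := Subgroup.card_dvd_of_le hle
    rcases m with _ | _ | m
    · exact absurd (by simpa using hm) (Nat.card_pos (α := ↥(perp z H))).ne'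
    · exact absurd (Subgroup.eq_of_le_of_card_ge hle (by simp [hm]) ▸ hqP) hqn
    · rw [hm, mul_comm]; exact Nat.mul_le_mul_left _ (by omega)
  exact hxH (hmax (y := H') ⟨hH'A, mem_sup_left hzH, by nlinarith⟩ le_sup_left
    (mem_sup_right (mem_zpowers x)))

/-- `[c, O_2(C(z))]⟨z⟩`. -/
def kr (z : G) (c : G) : Subgroup G := closure ({r | ∃ x ∈ oc z, r = c * x * c⁻¹ * x⁻¹} ∪ {z})

theorem kr_mem {c : G} (hc : c * z = z * c) {r : G} (hr : r ∈ kr z c) :
    ∃ x ∈ oc z, ∃ a, (a = 1 ∨ a = z) ∧ r = c * x * c⁻¹ * x⁻¹ * a := by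
  have hcQ : ∀ x ∈ oc z, c * x * c⁻¹ ∈ oc z := fun x hx =>
    oc_conj_mem (mem_centralizer_singleton_iff.2 hc) hx
  induction hr using closure_induction with
  | mem y hy =>
    rcases hy with ⟨x, hx, rfl⟩ | hyz
    · exact ⟨x, hx, 1, Or.inl rfl, (mul_one _).symm⟩
    · exact ⟨1, one_mem _, z, Or.inr rfl, by rw [show y = z from hyz]; group⟩
  | one => exact ⟨1, one_mem _, 1, Or.inl rfl, by group⟩
  | mul y y' _ _ ih ih' =>
    obtain ⟨x, hx, a, ha, rfl⟩ := ih
    obtain ⟨x', hx', a', ha', rfl⟩ := ih'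
    set w := c * x * c⁻¹ * x⁻¹
    set w' := c * x' * c⁻¹ * x'⁻¹ with hw'
    have hwQ : w' ∈ oc z := mul_mem (hcQ x' hx') (inv_mem hx')
    have hcomm : ∃ b, (b = 1 ∨ b = z) ∧ x * w' * x⁻¹ = w' * b := by
      rcases S.commutator_cases hx hwQ with e | e
      · exact ⟨1, Or.inl rfl, by rw [mul_inv_eq_one.1 e, mul_one]⟩
      · exact ⟨z, Or.inr rfl, by rw [mul_inv_eq_iff_eq_mul.1 e, (S.comm_z hwQ).eq]⟩
    obtain ⟨b, hb, hb'⟩ := hcomm
    refine ⟨x * x', mul_mem hx hx', b * (a * a'), ?_, ?_⟩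
    · rcases hb with rfl | rfl <;> rcases ha with rfl | rfl <;> rcases ha' with rfl | rfl <;>
        simp [S.sq_one]
    · have e : c * (x * x') * c⁻¹ * (x * x')⁻¹ = w * (w' * b) := by rw [← hb']; simp only [w, w']; group
      rw [e]
      calc w * a * (w' * a') = w * (a * w') * a' := by group
        _ = w * w' * (b * b) * (a * a') := by
          rw [← pm_comm S ha (S.comm_z hwQ).eq, pm_mul_self S hb]; group
        _ = w * (w' * b) * (b * (a * a')) := by group
  | inv y _ ih =>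
    obtain ⟨x, hx, a, ha, rfl⟩ := ih
    set w := c * x * c⁻¹ * x⁻¹ with hw
    have hwQ : w ∈ oc z := mul_mem (hcQ x hx) (inv_mem hx)
    obtain ⟨b, hb, hb'⟩ : ∃ b, (b = 1 ∨ b = z) ∧ x⁻¹ * w⁻¹ * x = w⁻¹ * b := by
      rcases S.commutator_cases (inv_mem hx) (inv_mem hwQ) with e | e <;> rw [inv_inv x] at e
      · exact ⟨1, Or.inl rfl, by rw [mul_inv_eq_one.1 e, mul_one]⟩
      · exact ⟨z, Or.inr rfl, by rw [mul_inv_eq_iff_eq_mul.1 e, (S.comm_z (inv_mem hwQ)).eq]⟩
    refine ⟨x⁻¹, inv_mem hx, b * a, ?_, ?_⟩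
    · rcases hb with rfl | rfl <;> rcases ha with rfl | rfl <;> simp [S.sq_one]
    · have e : c * x⁻¹ * c⁻¹ * x⁻¹⁻¹ = w⁻¹ * b := by rw [← hb', hw]; group
      rw [e, mul_inv_rev, inv_eq_of_mul_eq_one_right (pm_mul_self S ha),
        ← pm_comm S ha (S.comm_z (inv_mem hwQ)).eq]
      calc w⁻¹ * a = w⁻¹ * (b * b) * a := by rw [pm_mul_self S hb, mul_one]
        _ = w⁻¹ * b * (b * a) := by group

theorem card_kr {c : G} (hc : c * z = z * c) :
    Nat.card ↥(kr z c) * Nat.card ↥(kf S c) = 2 * Nat.card ↥(oc z) := by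
  classical
  have hcQ : ∀ x ∈ oc z, c * x * c⁻¹ ∈ oc z := fun x hx =>
    oc_conj_mem (mem_centralizer_singleton_iff.2 hc) hx
  haveI : ((zpowers z).subgroupOf (oc z)).Normal := ⟨fun a ha y => by
    obtain ⟨k, hk⟩ := ha
    refine ⟨k, ?_⟩
    show z ^ k = (y : G) * (a : G) * (y : G)⁻¹
    rw [show (a : G) = z ^ k from hk.symm, ((S.comm_z y.2).zpow_right k).eq, mul_inv_cancel_right]⟩
  set Z := (zpowers z).subgroupOf (oc z)
  have hzero : ∀ a : ↥(oc z), (a : G) = 1 ∨ (a : G) = z → (a : ↥(oc z) ⧸ Z) = 1 := fun a ha => by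
    rw [QuotientGroup.eq_one_iff]
    rcases ha with e | e <;> exact mem_subgroupOf.2 (by rw [e]; simp)
  have hcomm : ∀ a b : ↥(oc z) ⧸ Z, a * b = b * a := fun a b => by
    induction a using QuotientGroup.induction_on with | _ a => ?_
    induction b using QuotientGroup.induction_on with | _ b => ?_
    have h := hzero (a * b * a⁻¹ * b⁻¹) (S.commutator_cases a.2 b.2)
    rw [QuotientGroup.mk_mul, QuotientGroup.mk_mul, QuotientGroup.mk_mul, QuotientGroup.mk_inv,
      QuotientGroup.mk_inv, mul_inv_eq_one, mul_inv_eq_iff_eq_mul] at h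
    exact h
  let φ : ↥(oc z) →* ↥(oc z) ⧸ Z := MonoidHom.mk'
    (fun x => ((⟨c * x * c⁻¹ * (x : G)⁻¹, mul_mem (hcQ x x.2) (inv_mem x.2)⟩ : ↥(oc z)) : ↥(oc z) ⧸ Z))
    fun x y => by
      have e : (⟨c * ↑(x * y) * c⁻¹ * (↑(x * y) : G)⁻¹,
          mul_mem (hcQ _ (x * y).2) (inv_mem (x * y).2)⟩ : ↥(oc z)) =
          ⟨c * x * c⁻¹, hcQ x x.2⟩ * (⟨c * y * c⁻¹ * (y : G)⁻¹, mul_mem (hcQ y y.2) (inv_mem y.2)⟩ * x⁻¹) := by
        refine Subtype.ext ?_
        show c * ((x : G) * y) * c⁻¹ * ((x : G) * y)⁻¹ =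
          c * x * c⁻¹ * (c * y * c⁻¹ * (y : G)⁻¹ * (x : G)⁻¹)
        group
      rw [e, QuotientGroup.mk_mul, QuotientGroup.mk_mul, hcomm _ (↑x⁻¹), ← mul_assoc,
        ← QuotientGroup.mk_mul]
      rfl
  have hker : φ.ker = (kf S c).subgroupOf (oc z) := by
    ext x
    rw [MonoidHom.mem_ker, mem_subgroupOf]
    show ((_ : ↥(oc z)) : ↥(oc z) ⧸ Z) = 1 ↔ _
    rw [QuotientGroup.eq_one_iff, mem_subgroupOf]
    constructor
    · intro h
      have h' : c * x * c⁻¹ * (x : G)⁻¹ = 1 ∨ c * x * c⁻¹ * (x : G)⁻¹ = z := by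
        rcases mem_zpowers_iff.1 h with ⟨k, hk⟩
        rcases Int.even_or_odd' k with ⟨j, rfl | rfl⟩
        · left; rw [show c * x * c⁻¹ * (x : G)⁻¹ = z ^ (2 * j) from hk.symm, zpow_mul, zpow_two, S.sq_one, one_zpow]
        · right; rw [show c * x * c⁻¹ * (x : G)⁻¹ = z ^ (2 * j + 1) from hk.symm, zpow_add_one, zpow_mul, zpow_two, S.sq_one, one_zpow, one_mul]
      rcases h' with e | e
      · exact ⟨x.2, 1, Or.inl rfl, by rw [mul_inv_eq_one.1 e, mul_one]⟩
      · exact ⟨x.2, z, Or.inr rfl, by rw [mul_inv_eq_iff_eq_mul.1 e, (S.comm_z x.2).eq]⟩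
    · rintro ⟨-, a, ha, e⟩
      show c * x * c⁻¹ * (x : G)⁻¹ ∈ zpowers z
      rw [e, pm_comm S ha (S.comm_z x.2).eq, mul_inv_cancel_right]
      rcases ha with rfl | rfl
      exacts [one_mem _, mem_zpowers _]
  have hkr : φ.range.comap (QuotientGroup.mk' Z) = (kr z c).subgroupOf (oc z) := by
    ext y
    rw [mem_comap, MonoidHom.mem_range, mem_subgroupOf]
    constructor
    · rintro ⟨x, hx⟩
      have h2 := (QuotientGroup.eq.1 hx)
      rw [mem_subgroupOf] at h2
      have h3 : (c * x * c⁻¹ * (x : G)⁻¹)⁻¹ * y ∈ zpowers z := h2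
      have h4 := mul_mem (subset_closure (Or.inl ⟨x, x.2, rfl⟩) : c * x * c⁻¹ * (x : G)⁻¹ ∈ kr z c)
        (zpowers_le.2 (subset_closure (Or.inr rfl) : z ∈ kr z c) h3)
      rwa [mul_inv_cancel_left] at h4
    · intro h
      obtain ⟨x, hx, a, ha, e⟩ := kr_mem S hc h
      refine ⟨⟨x, hx⟩, QuotientGroup.eq.2 (mem_subgroupOf.2 ?_)⟩
      show (c * x * c⁻¹ * x⁻¹)⁻¹ * (y : G) ∈ zpowers z
      rw [e, inv_mul_cancel_left]
      rcases ha with rfl | rfl
      exacts [one_mem _, mem_zpowers _]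
  have hle : kr z c ≤ oc z := (closure_le _).2 (by
    rintro r (⟨x, hx, rfl⟩ | rfl)
    · exact mul_mem (hcQ x hx) (inv_mem hx)
    · exact mem_oc_self S.ord)
  have h1 := Subgroup.card_mul_index φ.ker
  rw [index_ker, hker, Nat.card_congr (subgroupOfEquivOfLe (fun r hr => hr.1 : kf S c ≤ oc z)).toEquiv] at h1
  have h2 : Nat.card ↥(φ.range.comap (QuotientGroup.mk' Z)) = Nat.card ↥Z * Nat.card ↥φ.range := by
    have h3 := Subgroup.card_mul_index (φ.range.comap (QuotientGroup.mk' Z))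
    rw [index_comap_of_surjective _ (QuotientGroup.mk'_surjective Z)] at h3
    have h4 := Subgroup.card_mul_index Z
    rw [index_eq_card, ← φ.range.card_mul_index, ← mul_assoc] at h4
    exact Nat.eq_of_mul_eq_mul_right (Nat.pos_of_ne_zero index_ne_zero_of_finite) (h3.trans h4.symm)
  rw [hkr, Nat.card_congr (subgroupOfEquivOfLe hle).toEquiv,
    Nat.card_congr (subgroupOfEquivOfLe (zpowers_le.2 (mem_oc_self S.ord))).toEquiv,
    Nat.card_zpowers, S.ord] at h2
  rw [h2, mul_assoc, mul_comm (Nat.card ↥φ.range), h1]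

/-- `[c, x]` centralises the fixed elements modulo `z`. -/
theorem kr_le_perp {c : G} (hc : c * z = z * c) : kr z c ≤ perp z (kf S c) := by
  refine (closure_le _).2 ?_
  rintro r (⟨x, hx, rfl⟩ | rfl)
  · refine mem_inf.2 ⟨mul_mem (oc_conj_mem (mem_centralizer_singleton_iff.2 hc) hx) (inv_mem hx),
      mem_centralizer_iff.2 ?_⟩
    rintro f ⟨hf, b, hb, e⟩
    obtain ⟨a, ha, ea⟩ : ∃ a, (a = 1 ∨ a = z) ∧ x⁻¹ * f * x = f * a := by
      rcases S.commutator_cases (inv_mem hx) hf with h | h <;> rw [inv_inv x] at h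
      · exact ⟨1, Or.inl rfl, by rw [mul_inv_eq_one.1 h, mul_one]⟩
      · exact ⟨z, Or.inr rfl, by rw [mul_inv_eq_iff_eq_mul.1 h, (S.comm_z hf).eq]⟩
    have hzx : ∀ {d}, d = 1 ∨ d = z → x * d = d * x := fun hd => pm_comm S hd (S.comm_z hx).eq
    have hcd : ∀ {d}, d = 1 ∨ d = z → c * d = d * c := fun hd => pm_comm S hd hc
    have hfd : ∀ {d}, d = 1 ∨ d = z → f * d = d * f := fun hd => pm_comm S hd (S.comm_z hf).eq
    have e1 : c⁻¹ * f * c = f * b := by
      calc c⁻¹ * f * c = c⁻¹ * (f * b) * (b * c) := by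
            rw [show c⁻¹ * (f * b) * (b * c) = c⁻¹ * f * (b * b) * c by group, pm_mul_self S hb, mul_one]
        _ = c⁻¹ * (c * f * c⁻¹) * (c * b) := by rw [e, hcd hb]
        _ = f * b := by group
    have e2 : x * f * x⁻¹ = f * a := by
      calc x * f * x⁻¹ = x * (x⁻¹ * f * x * a) * x⁻¹ := by
            rw [ea, mul_assoc f, pm_mul_self S ha, mul_one]
        _ = f * (x * a) * x⁻¹ := by group
        _ = f * a := by rw [hzx ha]; group
    symm
    refine mul_inv_eq_iff_eq_mul.1 ?_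
    calc c * x * c⁻¹ * x⁻¹ * f * (c * x * c⁻¹ * x⁻¹)⁻¹
        = c * x * (c⁻¹ * (x⁻¹ * f * x) * c) * x⁻¹ * c⁻¹ := by group
      _ = c * x * ((c⁻¹ * f * c) * (c⁻¹ * (a * c))) * x⁻¹ * c⁻¹ := by rw [ea]; group
      _ = c * (x * f * x⁻¹) * (x * (b * a) * x⁻¹) * c⁻¹ := by
          rw [e1, ← hcd ha, inv_mul_cancel_left]; group
      _ = c * f * (a * (b * a)) * c⁻¹ := by
          rw [e2, show x * (b * a) * x⁻¹ = b * a by
            rw [← mul_assoc x, hzx hb, mul_assoc b, hzx ha]; group]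
          group
      _ = (c * f * c⁻¹) * b := by
          rw [show a * (b * a) = b by
            rcases ha with rfl | rfl <;> rcases hb with rfl | rfl <;> simp [S.sq_one],
            mul_assoc (c * f) b, ← (Commute.inv_left (hcd hb : Commute c b)).eq]
          group
      _ = f := by rw [e, mul_assoc f, pm_mul_self S hb, mul_one]
  · exact ⟨mem_oc_self S.ord, mem_centralizer_iff.2 fun f hf => (S.comm_z hf.1).eq⟩

/-- For an involution `[s, O_2(C(z))]` is fixed modulo `z`. -/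
theorem kr_le_kf {s : G} (hs : s * z = z * s) (hss : s * s = 1) : kr z s ≤ kf S s := by
  refine (closure_le _).2 ?_
  rintro r (⟨x, hx, rfl⟩ | rfl)
  · set w := s * x * s⁻¹ * x⁻¹ with hw
    have hwQ : w ∈ oc z := mul_mem (oc_conj_mem (mem_centralizer_singleton_iff.2 hs) hx) (inv_mem hx)
    have h1 : s * w * s⁻¹ = w⁻¹ := by
      rw [hw, inv_eq_of_mul_eq_one_right hss]
      calc s * (s * x * s * x⁻¹) * s = (s * s) * x * s * x⁻¹ * s := by group
        _ = x * s * x⁻¹ * s := by rw [hss, one_mul]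
        _ = (s * x * s * x⁻¹)⁻¹ := by rw [mul_inv_rev, mul_inv_rev, mul_inv_rev,
          inv_eq_of_mul_eq_one_right hss]; group
    have h2 : w * w = 1 ∨ w * w = z := by
      have := Fact.mk Nat.prime_two
      have h3 := Fusion.es_pow_mem_center S.es (⟨w, hwQ⟩ : ↥(oc z))
      exact S.center_cases (mul_mem hwQ hwQ) fun p hp => by
        have h4 := congrArg Subtype.val (mem_center_iff.1 h3 ⟨p, hp⟩)
        simp only [pow_two, Subgroup.coe_mul] at h4
        exact h4
    refine ⟨hwQ, w * w, h2, h1.trans ?_⟩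
    calc w⁻¹ = w⁻¹ * (w * w * (w * w)) := by rw [pm_mul_self S h2, mul_one]
      _ = w * (w * w) := by group
  · exact ⟨mem_oc_self S.ord, 1, Or.inl rfl, by rw [hs, mul_inv_cancel_right, mul_one]⟩

end

/-- `O_2(C(z))` has order `2^9` and a normal cyclic subgroup `⟨q⟩` of order four, `z` is weakly closed,
and every element fixes an even-dimensional space. -/
structure Red (z q : G) : Prop where
  sett : Setting z
  card : Nat.card ↥(oc z) = 2 ^ 9
  weak : ∀ g : G, g * z * g⁻¹ ∈ oc z → g * z * g⁻¹ = z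
  mem : q ∈ oc z
  sq : q * q = z
  nrm : ∀ c, c * z = z * c → c * q * c⁻¹ = q ∨ c * q * c⁻¹ = q⁻¹
  even : ∀ c, c * z = z * c → ∃ k, Nat.card ↥(kf sett c) = 2 ^ (2 * k + 1)

namespace Red

variable {z q : G} (R : Red z q)
include R

/-- A conjugate of `q` centralising `z` gives a conjugate of `z` in `O_2(C(z))`. -/
theorem no_comm {g : G} (hne : g * z * g⁻¹ ≠ z) (hq : g * q * g⁻¹ * z = z * (g * q * g⁻¹)) : False := by
  have S := R.sett
  set s := g * z * g⁻¹ with hsdef
  set p := g * q * g⁻¹ with hpdef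
  have hps : p * p = s := by rw [hpdef, hsdef, ← R.sq]; group
  have hsz : s * z = z * s := by rw [← hps]; exact (Commute.mul_left hq hq).eq
  set F := kf R.sett s
  set B := oc z ⊓ centralizer ({s} : Set G)
  have hxle : kf R.sett p ≤ B := by
    rintro r ⟨hr, a, ha, e⟩
    refine ⟨hr, mem_centralizer_singleton_iff.2 ?_⟩
    rw [eq_comm, ← mul_inv_eq_iff_eq_mul, ← hps]
    calc p * p * r * (p * p)⁻¹ = p * (p * r * p⁻¹) * p⁻¹ := by group
      _ = p * (r * a) * p⁻¹ := by rw [e]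
      _ = (p * r * p⁻¹) * (p * a * p⁻¹) := by group
      _ = r * (a * a) := by rw [e, pm_comm S ha hq, mul_inv_cancel_right, mul_assoc]
      _ = r := by rw [pm_mul_self S ha, mul_one]
  have hcomm : B ≤ kf R.sett p := by
    rintro r ⟨hr, hrs⟩
    refine kf_of_fix _ hr ?_
    have hc : g⁻¹ * r * g * z = z * (g⁻¹ * r * g) := by
      have h1 := mem_centralizer_singleton_iff.1 hrs
      calc g⁻¹ * r * g * z = g⁻¹ * (r * s) * g := by rw [hsdef]; group
        _ = z * (g⁻¹ * r * g) := by rw [h1, hsdef]; group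
    have hpp : r * p * r⁻¹ = p ∨ r * p * r⁻¹ = p⁻¹ := by
      rcases R.nrm _ hc with h | h
      · left
        rw [hpdef]; conv_rhs => rw [← h]
        group
      · right; rw [hpdef, show (g * q * g⁻¹)⁻¹ = g * q⁻¹ * g⁻¹ by group, ← h]; group
    rcases hpp with e | e
    · exact (mul_inv_eq_iff_eq_mul.1 e).symm
    · exfalso
      refine hne (R.weak g ?_)
      have hm : r * p * r⁻¹ * p⁻¹ ∈ oc z := by
        rw [show r * p * r⁻¹ * p⁻¹ = r * (p * r⁻¹ * p⁻¹) by group]
        exact mul_mem hr (oc_conj_mem (mem_centralizer_singleton_iff.2 hq) (inv_mem hr))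
      rw [e, ← mul_inv_rev, hps] at hm
      simpa using inv_mem hm
  have hB : Nat.card ↥F ≤ 2 * Nat.card ↥(kf R.sett p) := by
    refine le_trans ?_ (Nat.mul_le_mul_left 2 (Nat.card_mono (Set.toFinite _) hcomm))
    refine (card_le_two_inf (H := F) (B := centralizer ({s} : Set G)) ?_).trans
      (Nat.mul_le_mul_left 2 (Nat.card_mono (Set.toFinite _) (inf_le_inf_right _ fun r hr => hr.1)))
    rintro a ⟨ha, x, hx, ex⟩ b ⟨hb, y, hy, ey⟩ hna hnb
    have hx' : x = z := hx.resolve_left fun e => hna (mem_centralizer_singleton_iff.2 (by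
      rw [e, mul_one, mul_inv_eq_iff_eq_mul] at ex; exact ex.symm))
    have hy' : y = z := hy.resolve_left fun e => hnb (mem_centralizer_singleton_iff.2 (by
      rw [e, mul_one, mul_inv_eq_iff_eq_mul] at ey; exact ey.symm))
    refine mem_centralizer_singleton_iff.2 (Eq.symm (mul_inv_eq_iff_eq_mul.1 ?_))
    calc s * (a * b) * s⁻¹ = (s * a * s⁻¹) * (s * b * s⁻¹) := by group
      _ = a * b * (z * z) := by rw [ex, ey, hx', hy', mul_assoc a, ← mul_assoc z, ← (S.comm_z hb).eq]; group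
      _ = a * b := by rw [S.sq_one, mul_one]
  have hxF : kf R.sett p ≤ F := fun r hr =>
    kf_of_fix _ (hxle hr).1 (mem_centralizer_singleton_iff.1 (hxle hr).2).symm
  have hEq : kf R.sett p = F := by
    refine Subgroup.eq_of_le_of_card_ge hxF ?_
    obtain ⟨i, hi⟩ := R.even s hsz
    obtain ⟨j, hj⟩ := R.even p hq
    rw [hi, hj, ← pow_succ'] at hB
    rw [hi, hj]
    exact Nat.pow_le_pow_right (by norm_num)
      (by have := (Nat.pow_le_pow_iff_right (by norm_num)).1 hB; omega)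
  have hrle : kr z s ≤ kr z p := (closure_le _).2 (by
    rintro r (⟨x, hx, rfl⟩ | rfl)
    · rw [← hps, show p * p * x * (p * p)⁻¹ * x⁻¹ =
        (p * (p * x * p⁻¹) * p⁻¹ * (p * x * p⁻¹)⁻¹) * (p * x * p⁻¹ * x⁻¹) by group]
      exact mul_mem (subset_closure (Or.inl ⟨_, oc_conj_mem (mem_centralizer_singleton_iff.2 hq) hx, rfl⟩))
        (subset_closure (Or.inl ⟨x, hx, rfl⟩))
    · exact subset_closure (Or.inr rfl))
  have hreq : kr z s = kr z p := Subgroup.eq_of_le_of_card_ge hrle (by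
    have h1 := card_kr R.sett hsz
    have h2 := card_kr R.sett hq
    rw [hEq, ← h1] at h2
    exact (Nat.eq_of_mul_eq_mul_right Nat.card_pos h2).le)
  have hss : s * s = 1 := by
    rw [hsdef, show g * z * g⁻¹ * (g * z * g⁻¹) = g * (z * z) * g⁻¹ by group, S.sq_one]
    group
  have hwp : ∀ x ∈ oc z, p * x * p⁻¹ * x⁻¹ ∈ kf R.sett p := fun x hx => by
    rw [hEq]
    exact kr_le_kf R.sett hsz hss (hreq ▸ subset_closure (Or.inl ⟨x, hx, rfl⟩))
  have hall : ∀ x ∈ oc z, x ∈ kf R.sett p := by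
    intro x hx
    refine hEq ▸ ⟨hx, ?_⟩
    obtain ⟨hwQ, a, ha, e⟩ := hwp x hx
    set w := p * x * p⁻¹ * x⁻¹ with hw
    have hww : w * w = 1 ∨ w * w = z := by
      have := Fact.mk Nat.prime_two
      have h3 := Fusion.es_pow_mem_center S.es (⟨w, hwQ⟩ : ↥(oc z))
      exact S.center_cases (mul_mem hwQ hwQ) fun r hr => by
        have h4 := congrArg Subtype.val (mem_center_iff.1 h3 ⟨r, hr⟩)
        simp only [pow_two, Subgroup.coe_mul] at h4
        exact h4
    refine ⟨a * (w * w), ?_, ?_⟩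
    · rcases ha with rfl | rfl <;> rcases hww with h | h <;> rw [h] <;> simp [S.sq_one]
    · calc s * x * s⁻¹ = (p * w * p⁻¹) * (p * x * p⁻¹) := by rw [← hps, hw]; group
        _ = w * a * (w * x) := by rw [e, hw]; group
        _ = a * (w * w) * x := by rw [pm_comm S ha (S.comm_z hwQ).eq]; group
        _ = x * (a * (w * w)) := (pm_comm S (by
          rcases ha with rfl | rfl <;> rcases hww with h | h <;> rw [h] <;> simp [S.sq_one])
          (S.comm_z hx).eq).symm
  have hsQ : s ∈ oc z := S.cent (mem_centralizer_iff.2 fun r hr =>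
    mem_centralizer_singleton_iff.1 (hxle (hall r hr)).2)
  exact hne (R.weak g hsQ)

/-- The involution is isolated. -/
theorem isolated {g : G} (hs : g * z * g⁻¹ * z = z * (g * z * g⁻¹)) : g * z * g⁻¹ = z := by
  by_contra hne
  have S := R.sett
  set s := g * z * g⁻¹ with hsdef
  set p := g * q * g⁻¹ with hpdef
  have hzp : p * z ≠ z * p := fun h => R.no_comm hne h
  have hqs : q * s ≠ s * q := fun h => by
    refine R.no_comm (g := g⁻¹) (fun e => hne ?_) ?_
    · rw [inv_inv] at e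
      calc s = g * (g⁻¹ * z * g) * g⁻¹ := by rw [e]
        _ = z := by group
    · rw [inv_inv]
      calc g⁻¹ * q * g * z = g⁻¹ * (q * s) * g := by rw [hsdef]; group
        _ = z * (g⁻¹ * q * g) := by rw [h, hsdef]; group
  have hss : s * s = 1 := by
    rw [hsdef, show g * z * g⁻¹ * (g * z * g⁻¹) = g * (z * z) * g⁻¹ by group, S.sq_one]
    group
  have hsi : s⁻¹ = s := inv_eq_of_mul_eq_one_right hss
  have hqi : q⁻¹ = q * z := inv_eq_of_mul_eq_one_right (by
    rw [← mul_assoc, R.sq, S.sq_one])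
  have hqsq : q * s * q⁻¹ = s * z := by
    have h := (R.nrm s hs).resolve_left fun e => hqs (mul_inv_eq_iff_eq_mul.1 e).symm
    rw [hqi, hsi] at h
    calc q * s * q⁻¹ = s * (s * q * s) * q⁻¹ := by
          rw [show s * (s * q * s) = (s * s) * (q * s) by simp only [mul_assoc], hss, one_mul]
      _ = s * z := by rw [h, (S.comm_z R.mem).eq]; group
  have hpzp : p * z * p⁻¹ = z * s := by
    have hc : g⁻¹ * z * g * z = z * (g⁻¹ * z * g) := by
      calc g⁻¹ * z * g * z = g⁻¹ * (z * s) * g := by rw [hsdef]; group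
        _ = z * (g⁻¹ * z * g) := by rw [← hs, hsdef]; group
    have h := (R.nrm _ hc).resolve_left fun e => hzp (by
      have e' : z * p * z⁻¹ = p := by
        rw [hpdef]; conv_rhs => rw [← e]
        group
      exact (mul_inv_eq_iff_eq_mul.1 e').symm)
    have h' : z * p * z⁻¹ = p * s := by
      calc z * p * z⁻¹ = g * (g⁻¹ * z * g * q * (g⁻¹ * z * g)⁻¹) * g⁻¹ := by rw [hpdef]; group
        _ = p * s := by rw [h, hqi, hpdef, hsdef]; group
    rw [inv_eq_of_mul_eq_one_right S.sq_one] at h'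
    have hps : p * s = s * p := by rw [hpdef, hsdef, ← R.sq]; group
    calc p * z * p⁻¹ = z * (z * p * z) * p⁻¹ := by
          rw [← mul_assoc, ← mul_assoc, S.sq_one, one_mul]
      _ = z * s := by rw [h', hps]; group
  set F := kf R.sett s
  set B := oc z ⊓ centralizer ({s} : Set G)
  set T := (B ⊓ centralizer ({p} : Set G)) ⊓ centralizer ({q} : Set G)
  have hrs : ∀ r ∈ B, r * s = s * r := fun r hr => mem_centralizer_singleton_iff.1 hr.2
  have hrp : ∀ r ∈ B, r * p * r⁻¹ = p ∨ r * p * r⁻¹ = p⁻¹ := fun r hr => by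
    have hc : g⁻¹ * r * g * z = z * (g⁻¹ * r * g) := by
      calc g⁻¹ * r * g * z = g⁻¹ * (r * s) * g := by rw [hsdef]; group
        _ = z * (g⁻¹ * r * g) := by rw [hrs r hr, hsdef]; group
    rcases R.nrm _ hc with h | h
    · left
      rw [hpdef]; conv_rhs => rw [← h]
      group
    · right; rw [hpdef, show (g * q * g⁻¹)⁻¹ = g * q⁻¹ * g⁻¹ by group, ← h]; group
  have hhalf : ∀ (x : G) (H : Subgroup G), (∀ r ∈ H, r * x * r⁻¹ = x ∨ r * x * r⁻¹ = x⁻¹) →
      Nat.card ↥H ≤ 2 * Nat.card ↥(H ⊓ centralizer ({x} : Set G) : Subgroup G) := fun x H hH => by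
    refine card_le_two_inf fun a ha b hb hna hnb => mem_centralizer_singleton_iff.2 ?_
    have ha' := (hH a ha).resolve_left fun e =>
      hna (mem_centralizer_singleton_iff.2 (mul_inv_eq_iff_eq_mul.1 e))
    have hb' := (hH b hb).resolve_left fun e =>
      hnb (mem_centralizer_singleton_iff.2 (mul_inv_eq_iff_eq_mul.1 e))
    refine mul_inv_eq_iff_eq_mul.1 ?_
    calc a * b * x * (a * b)⁻¹ = a * (b * x * b⁻¹) * a⁻¹ := by group
      _ = (a * x * a⁻¹)⁻¹ := by rw [hb']; group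
      _ = x := by rw [ha', inv_inv]
  have hT4 : Nat.card ↥B ≤ 4 * Nat.card ↥T := by
    have h1 := hhalf p B hrp
    have h2 : Nat.card ↥(B ⊓ centralizer ({p} : Set G) : Subgroup G) ≤ 2 * Nat.card ↥T :=
      hhalf q _ fun r hr => R.nrm r (S.comm_z hr.1.1).eq
    omega
  -- `T` lies in `O_2(C(s))`
  have hTs : ∀ r ∈ T, r ∈ oc s := fun r hr => by
    have hrp' := mem_centralizer_singleton_iff.1 hr.1.2
    have hrq := mem_centralizer_singleton_iff.1 hr.2
    have h1 := conj_mem_oc (g := p) hr.1.1.1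
    rw [← hrp', mul_inv_cancel_right, hpzp] at h1
    have h2 := conj_mem_oc (g := q) h1
    rwa [← hrq, mul_inv_cancel_right, show q * (z * s) * q⁻¹ = (q * z * q⁻¹) * (q * s * q⁻¹) by group,
      hqsq, (S.comm_z R.mem).eq, mul_inv_cancel_right, hs, ← mul_assoc, S.sq_one, one_mul] at h2
  have huniq : ∀ k, k * z * k⁻¹ ∈ oc s → k * z * k⁻¹ = s := fun k hk => by
    have h1 := conj_mem_oc (g := g⁻¹) hk
    rw [inv_inv, hsdef, show g⁻¹ * (g * z * g⁻¹) * g = z by group,
      show g⁻¹ * (k * z * k⁻¹) * g = g⁻¹ * k * z * (g⁻¹ * k)⁻¹ by group] at h1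
    calc k * z * k⁻¹ = g * (g⁻¹ * k * z * (g⁻¹ * k)⁻¹) * g⁻¹ := by group
      _ = s := by rw [R.weak _ h1]
  have hzs : z ∉ oc s := fun h => hne (huniq 1 (by simpa using h) ▸ by simp)
  have hssQ : s ∈ oc s := mem_oc_self (((MulAut.conj g).orderOf_eq z).trans S.ord)
  have hTB : ∀ t ∈ T, ∀ r ∈ B, r * t = t * r := fun t ht r hr => by
    rcases S.commutator_cases hr.1 ht.1.1.1 with e | e
    · exact mul_inv_eq_iff_eq_mul.1 (mul_inv_eq_one.1 e)
    · refine absurd ?_ hzs
      rw [← e]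
      exact mul_mem (oc_conj_mem (mem_centralizer_singleton_iff.2 (hrs r hr)) (hTs t ht))
        (inv_mem (hTs t ht))
  have htriv : ∀ t ∈ T, t ∈ kr z s → t = 1 := by
    intro t ht hk
    obtain ⟨x, hx, a, ha, e⟩ := kr_mem R.sett hs hk
    have htQ := hTs t ht
    have hconj : ∀ y, y * s * y⁻¹ = s * t → t = 1 := fun y hy => by
      have h := huniq (y * g) (by
        rw [show y * g * z * (y * g)⁻¹ = y * s * y⁻¹ by rw [hsdef]; group, hy]
        exact mul_mem hssQ htQ)
      rw [show y * g * z * (y * g)⁻¹ = y * s * y⁻¹ by rw [hsdef]; group, hy] at h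
      exact mul_eq_left.1 h
    rcases ha with rfl | haz
    · refine hconj x ?_
      rw [e, mul_one, hsi]
      calc x * s * x⁻¹ = (s * s) * x * s * x⁻¹ := by rw [hss, one_mul]
        _ = s * (s * x * s * x⁻¹) := by group
    · rw [haz] at e
      refine hconj (x * q) ?_
      calc x * q * s * (x * q)⁻¹ = x * (q * s * q⁻¹) * x⁻¹ := by group
        _ = (s * s) * x * s * x⁻¹ * (x * z * x⁻¹) := by rw [hqsq, hss, one_mul]; group
        _ = s * t := by rw [e, hsi, (S.comm_z hx).eq, mul_inv_cancel_right]; group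
  have hTperp : ∀ t ∈ T, t ∈ perp z B := fun t ht =>
    ⟨ht.1.1.1, mem_centralizer_iff.2 fun r hr => hTB t ht r hr⟩
  have hkperp : kr z s ≤ perp z B := (kr_le_perp R.sett hs).trans
    (inf_le_inf_left _ (centralizer_le fun r hr =>
      kf_of_fix _ hr.1 (mem_centralizer_singleton_iff.1 hr.2).symm))
  have hprod := Nat.card_le_card_of_injective
    (fun tr : ↥T × ↥(kr z s) => (⟨(tr.1 : G) * tr.2,
      mul_mem (hTperp _ tr.1.2) (hkperp tr.2.2)⟩ : ↥(perp z B))) (by
    rintro ⟨t, r⟩ ⟨t', r'⟩ e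
    have e' : (t : G) * r = t' * r' := congrArg Subtype.val e
    have h1 : (t' : G)⁻¹ * t = r' * (r : G)⁻¹ := by
      calc (t' : G)⁻¹ * t = (t' : G)⁻¹ * (t * r) * (r : G)⁻¹ := by group
        _ = r' * (r : G)⁻¹ := by rw [e']; group
    have ht : (t : G) = t' := (inv_mul_eq_one.1 (htriv _ (mul_mem (inv_mem t'.2) t.2)
      (h1 ▸ mul_mem r'.2 (inv_mem r.2)))).symm
    rw [ht] at e'
    exact Prod.ext (Subtype.ext ht) (Subtype.ext (mul_left_cancel e')))
  rw [Nat.card_prod] at hprod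
  have hBF : B ≤ F := fun r hr => kf_of_fix _ hr.1 (mem_centralizer_singleton_iff.1 hr.2).symm
  have hzB : z ∈ B := ⟨mem_oc_self S.ord, mem_centralizer_singleton_iff.2 hs.symm⟩
  have hperpB := card_perp_le R.sett (A := B) inf_le_left hzB
  have hFB : Nat.card ↥F ≤ 2 * Nat.card ↥B := by
    refine (card_le_two_inf (H := F) (B := centralizer ({s} : Set G)) ?_).trans
      (Nat.mul_le_mul_left 2 (Nat.card_mono (Set.toFinite _) (inf_le_inf_right _ fun r hr => hr.1)))
    rintro a ⟨ha, x, hx, ex⟩ b ⟨hb, y, hy, ey⟩ hna hnb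
    have hx' : x = z := hx.resolve_left fun e => hna (mem_centralizer_singleton_iff.2 (by
      rw [e, mul_one, mul_inv_eq_iff_eq_mul] at ex; exact ex.symm))
    have hy' : y = z := hy.resolve_left fun e => hnb (mem_centralizer_singleton_iff.2 (by
      rw [e, mul_one, mul_inv_eq_iff_eq_mul] at ey; exact ey.symm))
    refine mem_centralizer_singleton_iff.2 (Eq.symm (mul_inv_eq_iff_eq_mul.1 ?_))
    calc s * (a * b) * s⁻¹ = (s * a * s⁻¹) * (s * b * s⁻¹) := by group
      _ = a * b * (z * z) := by rw [ex, ey, hx', hy', mul_assoc a, ← mul_assoc z, ← (S.comm_z hb).eq]; group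
      _ = a * b := by rw [S.sq_one, mul_one]
  have hRF := card_kr R.sett hs
  have hRle := Nat.card_mono (Set.toFinite (F : Set G)) (kr_le_kf R.sett hs hss)
  rw [R.card] at hperpB hRF
  change Nat.card ↥(kr z s) ≤ Nat.card ↥F at hRle
  set t := Nat.card ↥T
  set k := Nat.card ↥(kr z s)
  set f := Nat.card ↥F
  set b := Nat.card ↥B
  have hk : 0 < k := Nat.card_pos
  have h5 : 32 ≤ f := by nlinarith
  have h6 : t * k * b ≤ 2 * 2 ^ 9 := le_trans (Nat.mul_le_mul_right b hprod) hperpB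
  have h7 : t * b ≤ f := by
    rw [← hRF] at h6
    exact Nat.le_of_mul_le_mul_left (by linarith [mul_comm t k, mul_assoc t k b, mul_assoc k t b] : k * (t * b) ≤ k * f) hk
  nlinarith

end Red

end Cfsg.Agent.CoTwoType
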