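import Cfsg.Agent.CoTwoType.Clifford
import Cfsg.Agent.Classical.SympGroup
import Cfsg.Agent.Classical.OrthSpinor
import Cfsg.Agent.ThreeTrans.OrthCohom
import Cfsg.Agent.Core.PCore

/-!
The transvections of `Sp(6, 2)` on codes, and consequences of perfectness and simplicity.
-/

set_option autoImplicit false
set_option linter.unusedSectionVars false
set_option maxRecDepth 100000

open Cfsg Cfsg.Agent.ThreeTrans.OrthCohom QuadraticMap Cfsg.Agent.Classical Cfsg.Agent.Classical.Quad Matrix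

namespace Cfsg.Agent.CoTwoType

/-- The group. -/
abbrev Sp6 : Type := ↥(Matrix.symplecticGroup (Fin 3) (ZMod 2))

/-- The vector of a code. -/
abbrev cv (a : ℕ) : Fin 3 ⊕ Fin 3 → ZMod 2 := dec (idxP 3) a

theorem cv_zero : cv 0 = 0 := by
  funext i
  simp [cv, dec]

theorem cv_inj : ∀ a b : Fin 64, cv a.val = cv b.val → a = b := by decide +kernel

theorem cv_surj (w : Fin 3 ⊕ Fin 3 → ZMod 2) : ∃ a : Fin 64, cv a.val = w := by
  have h : Function.Bijective fun a : Fin 64 => cv a.val :=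
    (Fintype.bijective_iff_injective_and_card _).2 ⟨fun a b e => cv_inj a b e, by simp⟩
  exact h.2 w

theorem cv_form : ∀ a b : Fin 64,
    (∑ i, (cv b.val (Sum.inr i) * cv a.val (Sum.inl i) - cv b.val (Sum.inl i) * cv a.val (Sum.inr i))) =
      if s6 a.val b.val then (1 : ZMod 2) else 0 := by decide +kernel

theorem tS_val : ∀ a b : Fin 64, (tS a b).val = if s6 a.val b.val then a.val ^^^ b.val else b.val := by
  decide +kernel

/-- The transvection of centre `a`. -/
noncomputable def tvS (a : Fin 64) : Sp6 := ⟨sympTransvection 3 (cv a.val) 1, sympTransvection_mem _ _⟩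

theorem tvS_mulVec (a : Fin 64) (x : Fin 3 ⊕ Fin 3 → ZMod 2) :
    (tvS a).1 *ᵥ x = x + sympB 3 (ZMod 2) x (cv a.val) • cv a.val := by
  show sympTransvection 3 (cv a.val) 1 *ᵥ x = _
  rw [sympTransvection_mulVec, one_mul]

theorem tvS_cv (a b : Fin 64) : (tvS a).1 *ᵥ cv b.val = cv (tS a b).val := by
  rw [tvS_mulVec, sympB_eq_sum, cv_form, tS_val]
  cases s6 a.val b.val
  · simp
  · simp only [↓reduceIte, one_smul, cv]
    rw [dec_xor, add_comm]

theorem sp_ext {A B : Sp6} (h : ∀ x, A.1 *ᵥ x = B.1 *ᵥ x) : A = B :=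
  Subtype.ext (Matrix.ext_of_mulVec_single fun i => h _)

theorem sp_ext_cv {A B : Sp6} (h : ∀ b : Fin 64, A.1 *ᵥ cv b.val = B.1 *ᵥ cv b.val) : A = B :=
  sp_ext fun x => by
    obtain ⟨b, rfl⟩ := cv_surj x
    exact h b

theorem tvS_sq (a : Fin 64) : tvS a * tvS a = 1 := by
  refine sp_ext fun x => ?_
  show ((tvS a).1 * (tvS a).1) *ᵥ x = (1 : Matrix _ _ (ZMod 2)) *ᵥ x
  rw [← Matrix.mulVec_mulVec, tvS_mulVec, tvS_mulVec, Matrix.one_mulVec, map_add, map_smul]
  simp only [LinearMap.add_apply, LinearMap.smul_apply, sympB_isAlt (cv a.val), smul_zero, add_zero]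
  rw [add_assoc, ← add_smul, (by decide : ∀ p : ZMod 2, p + p = 0), zero_smul, add_zero]

theorem tvS_zero : tvS 0 = 1 := by
  refine sp_ext fun x => ?_
  rw [tvS_mulVec, show ((0 : Fin 64) : ℕ) = 0 from rfl, cv_zero]
  simp

theorem tvS_inj : Function.Injective tvS := by
  have key : ∀ a b : Fin 64, (∀ x ∈ ([1, 2, 4, 8, 16, 32] : List (Fin 64)), tS a x = tS b x) → a = b := by
    decide +kernel
  intro a b e
  refine key a b fun x _ => cv_inj _ _ ?_
  rw [← tvS_cv, ← tvS_cv, e]

/-- Conjugation of a transvection. -/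
theorem tvS_conj (M : Sp6) {a b : Fin 64} (h : M.1 *ᵥ cv a.val = cv b.val) : M * tvS a * M⁻¹ = tvS b := by
  rw [mul_inv_eq_iff_eq_mul]
  refine sp_ext fun x => ?_
  show (M.1 * (tvS a).1) *ᵥ x = ((tvS b).1 * M.1) *ᵥ x
  rw [← Matrix.mulVec_mulVec, ← Matrix.mulVec_mulVec, tvS_mulVec, tvS_mulVec, Matrix.mulVec_add,
    Matrix.mulVec_smul, h, ← h, (mem_symplectic_iff _).1 M.2]

theorem tvS_rel (a b : Fin 64) : tvS a * tvS b * tvS a = tvS (tS a b) := by
  have h := tvS_conj (tvS a) (tvS_cv a b)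
  rwa [inv_eq_of_mul_eq_one_right (tvS_sq a)] at h

/-- A property stable under products holding for the transvections holds everywhere. -/
theorem sp_induction {P : Sp6 → Prop} (h1 : P 1) (ht : ∀ a : Fin 64, a ≠ 0 → P (tvS a))
    (hm : ∀ A B, P A → P B → P (A * B)) (hi : ∀ A, P A → P A⁻¹) (A : Sp6) : P A := by
  have hA : A ∈ Subgroup.closure {A : Sp6 | ∃ (w : Fin 3 ⊕ Fin 3 → ZMod 2) (c : ZMod 2),
      (A : Matrix (Fin 3 ⊕ Fin 3) (Fin 3 ⊕ Fin 3) (ZMod 2)) = sympTransvection 3 w c} := by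
    rw [closure_sympTransvection]; exact Subgroup.mem_top A
  induction hA using Subgroup.closure_induction with
  | mem B hB =>
    obtain ⟨w, c, hB⟩ := hB
    obtain ⟨a, rfl⟩ := cv_surj w
    rcases (by decide : ∀ c : ZMod 2, c = 0 ∨ c = 1) c with rfl | rfl
    · have : B = 1 := sp_ext fun x => by rw [hB, sympTransvection_mulVec]; simp
      rw [this]; exact h1
    · have : B = tvS a := Subtype.ext hB
      rw [this]
      by_cases ha : a = 0
      · rw [ha, tvS_zero]; exact h1
      · exact ht a ha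
  | one => exact h1
  | mul B B' _ _ hb hb' => exact hm B B' hb hb'
  | inv B _ hb => exact hi B hb

theorem sp6_card : Nat.card Sp6 = 1451520 := by
  rw [card_symplecticGroup (ZMod.card 2) 3]
  decide

theorem sp6_perfect {H : Type*} [CommGroup H] (f : Sp6 →* H) (A : Sp6) : f A = 1 := by
  have h : commutator Sp6 ≤ f.ker := Abelianization.commutator_subset_ker f
  exact h (by rw [commutator_symplectic (Or.inl le_rfl)]; exact Subgroup.mem_top A)

theorem sp6_pPrimeCore : pPrimeCore 2 Sp6 = ⊥ := by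
  haveI : Fact (Nat.Prime 2) := ⟨Nat.prime_two⟩
  have hc : Subgroup.center Sp6 = ⊥ := Subgroup.card_eq_one.1 (by
    rw [card_center_symplectic (by norm_num), ZMod.card]; rfl)
  have hs : IsSimpleGroup (Cfsg.PSp 3 (ZMod 2)) := isSimpleGroup_psp (by norm_num) (by norm_num)
  haveI : IsSimpleGroup Sp6 :=
    ((QuotientGroup.quotientMulEquivOfEq hc).trans QuotientGroup.quotientBot).symm.isSimpleGroup
  refine (Subgroup.Normal.eq_bot_or_eq_top inferInstance).resolve_right fun h => ?_
  have := Core.coprime_card_pPrimeCore (p := 2) (G := Sp6)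
  rw [h, Subgroup.card_top, sp6_card] at this
  norm_num at this

end Cfsg.Agent.CoTwoType
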