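import Cfsg.Agent.CoTwoType.Spin
import Cfsg.Agent.CoTwoType.Reducible
import Cfsg.Agent.CoTwoType.Sp
import Cfsg.Agent.CoTwoType.Quad
import Cfsg.Agent.CoOneType.Build
import Cfsg.Agent.CoTwoType.Nwc.Fixed
import Cfsg.Agent.CoTwoType.Nwc.Spin
import Cfsg.Agent.Fg24.ExtraTwo
import Cfsg.Agent.Layer.PConstraint
import Cfsg.Agent.Fi24Cent.Isolation

/-!
The setting of the second Conway group from the hypotheses on the centraliser of the involution.
-/

set_option autoImplicit false
set_option linter.unusedSectionVars false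

open Cfsg Cfsg.Agent.ThreeTrans.OrthCohom Cfsg.Agent.Classical.Quad QuadraticMap Cfsg.Agent.LargeExtra Module
open Cfsg.Agent.CoOneType (V O dc zp dc_surj dc_zero Cz)

namespace Cfsg.Agent.CoTwoType

/-- Every isometry coming from `Sp(6, 2)` is even. -/
theorem dsign_sp {W : Type*} [AddCommGroup W] [Module (ZMod 2) W] [Finite W] {Q : QuadraticForm (ZMod 2) W}
    (hQ : (polarBilin Q).Nondegenerate) (h8 : finrank (ZMod 2) W = 8) (ψ : Sp6 →* oG Q) (A : Sp6) :
    dsign (ψ A) = 1 :=
  sp6_perfect ((dickson hQ (Or.inr (by rw [h8]; norm_num))).comp ψ) A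

theorem finrank_V : finrank (ZMod 2) V = 8 := by simp

/-- An even isometry moves a space of even dimension. -/
theorem range_ne_two {W : Type*} [AddCommGroup W] [Module (ZMod 2) W] [Finite W] {Q : QuadraticForm (ZMod 2) W}
    (h8 : finrank (ZMod 2) W = 8) {g : oG Q} (hg : dsign g = 1) :
    Nat.card ↥(LinearMap.range (g.1.toLinearMap + 1)) ≠ 2 ∧ ∃ k, Nat.card ↥(fixSub g) = 2 ^ (2 * k) := by
  have hk : LinearMap.ker (g.1.toLinearMap + 1) = fixSub g := by
    ext x
    rw [LinearMap.mem_ker, mem_fixSub]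
    show g.1 x + x = 0 ↔ g.1 x = x
    exact ⟨fun h => w_eq_of_add h, fun h => by rw [h, w_add_self]⟩
  have hev : Even (finrank (ZMod 2) ↥(fixSub g)) := by
    rw [dsign, h8] at hg
    rcases Nat.even_or_odd (finrank (ZMod 2) ↥(fixSub g)) with h | h
    · exact h
    · rw [((by decide : Even 8).add_odd h).neg_one_pow] at hg
      exact absurd hg (by decide)
  refine ⟨fun h => ?_, ?_⟩
  · have h1 := LinearMap.finrank_range_add_finrank_ker (g.1.toLinearMap + 1)
    rw [hk, h8] at h1
    rw [Module.natCard_eq_pow_finrank (K := ZMod 2), Nat.card_zmod] at h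
    have h2 := Nat.pow_right_injective le_rfl (h.trans (pow_one 2).symm)
    rw [h2] at h1
    obtain ⟨m, hm⟩ := hev
    omega
  · obtain ⟨m, hm⟩ := hev
    exact ⟨m, by rw [Module.natCard_eq_pow_finrank (K := ZMod 2), Nat.card_zmod, hm, two_mul]⟩

variable {G : Type*} [Group G] [Finite G]

/-- The fixed elements modulo `z`. -/
theorem card_kf {z : G} {W : Type*} [AddCommGroup W] [Module (ZMod 2) W] [Finite W]
    {Q : QuadraticForm (ZMod 2) W} (P : Pre z Q) {c : G} (hc : c * z = z * c) :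
    Nat.card ↥(kf P.sett c) = 2 * Nat.card ↥(fixSub (P.act c)) := by
  classical
  let ψ : ↥(kf P.sett c) →* Multiplicative W := MonoidHom.mk' (fun e => Multiplicative.ofAdd (P.pr e))
    fun e f => congrArg Multiplicative.ofAdd (P.pr_mul _ e.2.1 _ f.2.1)
  have hzk : z ∈ kf P.sett c := kf_of_fix _ P.zmem hc
  have hk : ψ.ker = (Subgroup.zpowers z).subgroupOf (kf P.sett c) := by
    ext e
    rw [MonoidHom.mem_ker, Subgroup.mem_subgroupOf]
    constructor
    · intro h
      rcases P.pr_ker e e.2.1 h with e' | e' <;> rw [e']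
      exacts [one_mem _, Subgroup.mem_zpowers z]
    · intro h
      obtain ⟨k, hk⟩ := Subgroup.mem_zpowers_iff.1 h
      refine congrArg Multiplicative.ofAdd (P.pr_pm ?_)
      rcases Int.even_or_odd' k with ⟨j, rfl | rfl⟩
      · left; rw [← hk, zpow_mul, zpow_two, P.sett.sq_one, one_zpow]
      · right; rw [← hk, zpow_add_one, zpow_mul, zpow_two, P.sett.sq_one, one_zpow, one_mul]
  have hr : Nat.card ↥ψ.range = Nat.card ↥(fixSub (P.act c)) :=
    Nat.card_congr (Equiv.subtypeEquiv Multiplicative.toAdd fun w => by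
      constructor
      · rintro ⟨e, rfl⟩
        obtain ⟨he, a, ha, h⟩ := e.2
        show (P.act c).1 (P.pr e) = P.pr e
        rw [← P.act_spec c hc e he, h, P.pr_mul _ he _ (by rcases ha with rfl | rfl; exacts [one_mem _, P.zmem]),
          P.pr_pm ha, add_zero]
      · intro hw
        obtain ⟨e, he, hew⟩ := P.pr_surj (Multiplicative.toAdd w)
        have h1 : P.pr (e⁻¹ * (c * e * c⁻¹)) = 0 := by
          rw [P.pr_mul _ (inv_mem he) _ (P.nrm hc he), P.pr_inv he, P.act_spec c hc e he, hew,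
            show (P.act c).1 (Multiplicative.toAdd w) = Multiplicative.toAdd w from hw, w_add_self]
        refine ⟨⟨e, he, e⁻¹ * (c * e * c⁻¹), ?_, (mul_inv_cancel_left _ _).symm⟩, congrArg Multiplicative.ofAdd hew⟩
        exact P.pr_ker _ (mul_mem (inv_mem he) (P.nrm hc he)) h1)
  have h1 := Subgroup.card_mul_index ψ.ker
  rw [Subgroup.index_ker, hk, Nat.card_congr (Subgroup.subgroupOfEquivOfLe (Subgroup.zpowers_le.2 hzk)).toEquiv,
    Nat.card_zpowers, P.sett.ord, hr] at h1
  exact h1.symm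

/-- The setting from the hypotheses on the centraliser of the involution. -/
theorem exists_coT (hO : oddCore G = ⊥) (hZ : Subgroup.center G = ⊥) (z : G) (hz : orderOf z = 2)
    (hcon : IsPConstrained 2 (Subgroup.centralizer ({z} : Set G)))
    (hQ : IsExtraspecial 2 (pCore 2 (Subgroup.centralizer ({z} : Set G))))
    (hcard : Nat.card (pCore 2 (Subgroup.centralizer ({z} : Set G))) = 2 ^ 9)
    (e : (Subgroup.centralizer ({z} : Set G)) ⧸ pCore 2 (Subgroup.centralizer ({z} : Set G)) ≃*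
      Matrix.symplecticGroup (Fin 3) (ZMod 2)) : Nonempty (CoT z) := by
  classical
  have : Fact (Nat.Prime 2) := ⟨Nat.prime_two⟩
  set Q := pCore 2 ↥(Cz z) with hQdef
  have hoc : oc z = Q.map (Cz z).subtype := rfl
  have hes : IsExtraspecial 2 ↥(oc z) := by
    rw [hoc]
    exact LargeExtra.extraspecial_congr (Q.equivMapOfInjective _ (Cz z).subtype_injective) hQ
  have hC : pPrimeCore 2 ↥(Cz z) = ⊥ := by
    have hle : pPrimeCore 2 ↥(Cz z) ≤ Q := by
      have h1 := Core.map_pPrimeCore_le_of_surjective (p := 2)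
        (f := e.toMonoidHom.comp (QuotientGroup.mk' Q)) (e.surjective.comp (QuotientGroup.mk'_surjective _))
      rw [sp6_pPrimeCore, le_bot_iff, Subgroup.map_eq_bot_iff] at h1
      intro x hx
      have h2 := h1 hx
      rw [MonoidHom.mem_ker, MonoidHom.comp_apply, MulEquiv.coe_toMonoidHom, MulEquiv.map_eq_one_iff] at h2
      exact (QuotientGroup.eq_one_iff x).1 h2
    refine le_bot_iff.1 ?_
    rw [← Layer.inf_eq_bot_of_isPGroup (Core.pCore_isPGroup (p := 2) (G := ↥(Cz z)))
      (Core.coprime_card_pPrimeCore (p := 2) (G := ↥(Cz z)))]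
    exact le_inf hle le_rfl
  have hcentC : ∀ d : ↥(Cz z), (∀ q ∈ Q, q * d = d * q) → d ∈ Q := by
    have hself : Layer.PCoreSelfCentral 2 ↥(Cz z) := Layer.pCoreSelfCentral_congr
      ((QuotientGroup.quotientMulEquivOfEq hC).trans QuotientGroup.quotientBot)
      (Layer.isPConstrained_iff_selfCentral.1 hcon)
    exact fun d hd => hself (Subgroup.mem_centralizer_iff.2 hd)
  have hzC : z ∈ (Cz z) := Subgroup.mem_centralizer_singleton_iff.2 rfl
  set zC : ↥(Cz z) := ⟨z, hzC⟩
  have hzQ : zC ∈ Q := hcentC zC fun q _ => Subtype.ext (Subgroup.mem_centralizer_singleton_iff.1 q.2)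
  have hset : Setting z := by
    refine ⟨hz, hes, fun d hd => ?_⟩
    rw [hoc] at hd ⊢
    have hdC : d ∈ (Cz z) := Subgroup.mem_centralizer_singleton_iff.2
      (Subgroup.mem_centralizer_iff.1 hd z ⟨zC, hzQ, rfl⟩).symm
    exact ⟨⟨d, hdC⟩, hcentC _ fun q hq => Subtype.ext (Subgroup.mem_centralizer_iff.1 hd _ ⟨q, hq, rfl⟩), rfl⟩
  have hcard' : Nat.card ↥(oc z) = 2 ^ 9 := by
    rw [hoc, Nat.card_congr (Q.equivMapOfInjective _ (Cz z).subtype_injective).toEquiv.symm, hcard]
  obtain ⟨m, c, ⟨ε⟩⟩ := Fg24.ExtraTwo.exists_equiv_heis hQ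
  obtain rfl : m = 3 := by
    have h := Nat.card_congr ε.toEquiv
    rw [hcard, Heis.card] at h
    have := Nat.pow_right_injective le_rfl h
    omega
  let cg : ↥(Cz z) →* MulAut (Heis 3 c) := ((MulAut.congr ε).toMonoidHom).comp MulAut.conjNormal
  let ρ : ↥(Cz z) →* oG (qH c) := (qmap c).comp cg
  have hρ : ∀ (d : ↥(Cz z)) (r : ↥Q) (hr : d * r * d⁻¹ ∈ Q),
      (ρ d).1 (ε r).v = (ε ⟨d * r * d⁻¹, hr⟩).v := fun d r hr => by
    rw [show (ρ d).1 (ε r).v = (cg d (ε r)).v from qmap_apply c (cg d) (ε r)]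
    simp only [cg, MonoidHom.comp_apply, MulEquiv.coe_toMonoidHom, MulAut.congr_apply, MulEquiv.trans_apply,
      MulEquiv.symm_apply_apply]
    exact congrArg (fun x : ↥Q => (ε x).v) (Subtype.ext rfl)
  have hker : ρ.ker = Q := by
    refine le_antisymm (fun d hd => ?_) fun d hd => ?_
    · obtain ⟨h, hh⟩ := qmap_ker c (show cg d ∈ (qmap c).ker from hd)
      have hx : ∀ r : ↥Q, ((ε.symm h : ↥Q) : ↥(Cz z))⁻¹ * d * r = r * (((ε.symm h : ↥Q) : ↥(Cz z))⁻¹ * d) := by
        intro r
        have h1 := congrArg (fun α : MulAut (Heis 3 c) => ε.symm (α (ε r))) hh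
        simp [cg] at h1
        have h2 : ((ε.symm h : ↥Q) : ↥(Cz z)) * r * ((ε.symm h : ↥Q) : ↥(Cz z))⁻¹ = d * r * d⁻¹ := by
          have h3 := congrArg Subtype.val h1
          rwa [MulAut.conjNormal_apply, Subgroup.coe_mul, Subgroup.coe_mul, Subgroup.coe_inv] at h3
        calc ((ε.symm h : ↥Q) : ↥(Cz z))⁻¹ * d * r
            = ((ε.symm h : ↥Q) : ↥(Cz z))⁻¹ * (d * r * d⁻¹) * d := by group
          _ = r * (((ε.symm h : ↥Q) : ↥(Cz z))⁻¹ * d) := by rw [← h2]; group
      have hm := hcentC _ fun r hr => (hx ⟨r, hr⟩).symm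
      have := mul_mem (ε.symm h).2 hm
      rwa [mul_inv_cancel_left] at this
    · refine Subtype.ext (LinearEquiv.ext fun v => ?_)
      obtain ⟨r, hr⟩ := ε.surjective ⟨v, 0⟩
      have hm : d * r * d⁻¹ ∈ Q := mul_mem (mul_mem hd r.2) (inv_mem hd)
      have h := hρ d r hm
      rw [hr] at h
      show (ρ d).1 v = v
      rw [h, show (⟨d * r * d⁻¹, hm⟩ : ↥Q) = ⟨d, hd⟩ * r * ⟨d, hd⟩⁻¹ from rfl, map_mul, map_mul, map_inv, hr,
        Heis.mul_def, Heis.inv_def, Heis.mul_def, ZModModule.neg_eq_self]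
      show (ε ⟨d, hd⟩).v + v + (ε ⟨d, hd⟩).v = v
      rw [add_comm (ε ⟨d, hd⟩).v v, add_assoc, w_add_self, add_zero]
  let mk : ↥(Cz z) →* Sp6 := e.toMonoidHom.comp (QuotientGroup.mk' Q)
  have hmk : Function.Surjective mk := e.surjective.comp (QuotientGroup.mk'_surjective _)
  let φ : Sp6 →* oG (qH c) := (QuotientGroup.lift Q ρ hker.ge).comp e.symm.toMonoidHom
  have hφmk : ∀ d, φ (mk d) = ρ d := fun d => by
    show QuotientGroup.lift Q ρ hker.ge (e.symm (e (QuotientGroup.mk d))) = ρ d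
    rw [MulEquiv.symm_apply_apply]; rfl
  have hφinj : Function.Injective φ := (injective_iff_map_eq_one φ).2 fun A hA => by
    obtain ⟨d, rfl⟩ := hmk A
    rw [hφmk, ← MonoidHom.mem_ker, hker] at hA
    show e (QuotientGroup.mk d) = 1
    rw [(QuotientGroup.eq_one_iff d).2 hA, map_one]
  have heven : ∀ A, dsign (φ A) = 1 := dsign_sp (qH_nondeg c) finrank_HV3 φ
  -- the projection and the action
  have hCmem : ∀ d : G, d * z = z * d → d ∈ (Cz z) := fun d hd => Subgroup.mem_centralizer_singleton_iff.2 hd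
  have hocQ : ∀ a : G, a ∈ oc z ↔ ∃ h : a ∈ (Cz z), (⟨a, h⟩ : ↥(Cz z)) ∈ Q := fun a => by
    rw [hoc]
    constructor
    · rintro ⟨b, hb, rfl⟩; exact ⟨b.2, hb⟩
    · rintro ⟨h, hb⟩; exact ⟨_, hb, rfl⟩
  let pr : G → HV 3 := fun a =>
    if h : ∃ h : a ∈ (Cz z), (⟨a, h⟩ : ↥(Cz z)) ∈ Q then (ε ⟨⟨a, h.1⟩, h.2⟩).v else 0
  have hpr : ∀ (a : ↥(Cz z)) (ha : a ∈ Q), pr (a : G) = (ε ⟨a, ha⟩).v := fun a ha => by
    simp only [pr]; rw [dif_pos ⟨a.2, ha⟩]
  let act : G → oG (qH c) := fun d => if h : d ∈ (Cz z) then ρ ⟨d, h⟩ else 1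
  have hact : ∀ d : ↥(Cz z), act (d : G) = φ (mk d) := fun d => by
    rw [hφmk]; exact dif_pos d.2
  have hzv : (ε ⟨zC, hzQ⟩).v = 0 := LargeExtra.hB_nondeg fun w => by
    refine (Heis.comm_iff _ ⟨w, 0⟩).1 ?_
    obtain ⟨y, hy⟩ := ε.surjective ⟨w, 0⟩
    rw [← hy, ← map_mul, ← map_mul]
    congr 1
    exact Subtype.ext (Subtype.ext (Subgroup.mem_centralizer_singleton_iff.1 (y : ↥(Cz z)).2).symm)
  have hzne : (ε ⟨zC, hzQ⟩) ≠ 1 := fun h => by
    have h' : z = 1 := congrArg (fun x : ↥Q => ((x : ↥(Cz z)) : G)) (ε.map_eq_one_iff.1 h)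
    rw [h', orderOf_one] at hz
    omega
  have hzs : (ε ⟨zC, hzQ⟩).s = 1 := (z2_cases _).resolve_left fun h => hzne (Heis.ext hzv h)
  have hcentral : ∀ x : ↥Q, (ε x).v = 0 → (x : G) = pz z (ε x).s := fun x hx => by
    rcases z2_cases (ε x).s with h | h
    · rw [h, pz, if_pos rfl]
      exact congrArg (fun x : ↥Q => ((x : ↥(Cz z)) : G)) (ε.map_eq_one_iff.1 (Heis.ext hx h))
    · rw [h, pz, if_neg one_ne_zero]
      exact congrArg (fun x : ↥Q => ((x : ↥(Cz z)) : G))
        (ε.injective (Heis.ext (hx.trans hzv.symm) (h.trans hzs.symm)) : x = ⟨zC, hzQ⟩)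
  let P : Pre z (qH c) :=
    { sett := hset
      card := hcard'
      sp_card := by rw [LargeExtra.hcard]; norm_num
      nondeg := qH_nondeg c
      pr := pr
      pr_mul := fun a ha b hb => by
        obtain ⟨h1, h2⟩ := (hocQ a).1 ha
        obtain ⟨h3, h4⟩ := (hocQ b).1 hb
        rw [show a * b = ((⟨a, h1⟩ * ⟨b, h3⟩ : ↥(Cz z)) : G) from rfl, hpr _ (mul_mem h2 h4),
          show pr a = _ from hpr ⟨a, h1⟩ h2, show pr b = _ from hpr ⟨b, h3⟩ h4]
        exact congrArg Heis.v (map_mul ε ⟨_, h2⟩ ⟨_, h4⟩)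
      pr_ker := fun a ha h => by
        obtain ⟨h1, h2⟩ := (hocQ a).1 ha
        rw [show pr a = _ from hpr ⟨a, h1⟩ h2] at h
        have := hcentral ⟨_, h2⟩ h
        rcases z2_cases (ε ⟨⟨a, h1⟩, h2⟩).s with e | e <;> rw [e, pz] at this
        · exact Or.inl (this.trans (if_pos rfl))
        · exact Or.inr (this.trans (if_neg one_ne_zero))
      pr_z := by rw [show pr z = _ from hpr zC hzQ, hzv]
      pr_surj := fun v => by
        obtain ⟨x, hx⟩ := ε.surjective ⟨v, 0⟩
        refine ⟨((x : ↥(Cz z)) : G), (hocQ _).2 ⟨(x : ↥(Cz z)).2, x.2⟩, ?_⟩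
        rw [hpr (x : ↥(Cz z)) x.2, show ε ⟨(x : ↥(Cz z)), x.2⟩ = ε x from rfl, hx]
      pr_sq := fun a ha => by
        obtain ⟨h1, h2⟩ := (hocQ a).1 ha
        have hs : ε (⟨⟨a, h1⟩, h2⟩ * ⟨⟨a, h1⟩, h2⟩) =
            ⟨0, hbeta c (ε ⟨⟨a, h1⟩, h2⟩).v (ε ⟨⟨a, h1⟩, h2⟩).v⟩ := by rw [map_mul, Heis.sq_eq]
        have := hcentral _ (congrArg Heis.v hs)
        rw [hs] at this
        rw [show pr a = _ from hpr ⟨a, h1⟩ h2, qH_apply]
        exact this
      act := act
      act_spec := fun d hd a ha => by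
        obtain ⟨h1, h2⟩ := (hocQ a).1 ha
        have hdC := hCmem d hd
        have hm := Subgroup.Normal.conj_mem (inferInstance : Q.Normal) _ h2 (⟨d, hdC⟩ : ↥(Cz z))
        rw [show d * a * d⁻¹ = ((⟨d, hdC⟩ * ⟨a, h1⟩ * ⟨d, hdC⟩⁻¹ : ↥(Cz z)) : G) from rfl, hpr _ hm,
          show pr a = _ from hpr ⟨a, h1⟩ h2, show act d = _ from dif_pos hdC]
        exact (hρ ⟨d, hdC⟩ ⟨⟨a, h1⟩, h2⟩ hm).symm
      act_even := fun d hd => by
        rw [show act d = _ from hact ⟨d, hCmem d hd⟩]; exact heven _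
      act_ker := fun d hd h => by
        have hdC := hCmem d hd
        rw [show act d = _ from dif_pos hdC, ← MonoidHom.mem_ker, hker] at h
        exact (hocQ d).2 ⟨hdC, h⟩ }
  -- the transvections
  let R : TRep (qH c) :=
    { nondeg := qH_nondeg c
      card := by rw [LargeExtra.hcard]; norm_num
      t := fun a => φ (tvS a)
      inj := hφinj.comp tvS_inj
      sq := fun a => by rw [← map_mul, tvS_sq, map_one]
      rel := fun a b => by rw [← map_mul, ← map_mul, tvS_rel]
      par := fun a => (range_ne_two finrank_HV3 (heven _)).1 }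
  rcases R.spin_or_fixed with ⟨v, hv, hvfix⟩ | ⟨r, hr, hspec⟩
  · -- the reducible case does not occur
    exfalso
    have hfixA : ∀ A : Sp6, (φ A).1 v = v := by
      refine sp_induction ?_ (fun a ha => hvfix a ha) (fun A B hA hB => ?_) (fun A hA => ?_)
      · rw [map_one]; rfl
      · rw [map_mul, oG_mul_apply, hB, hA]
      · conv_lhs => rw [← hA]
        rw [← oG_mul_apply, ← map_mul, inv_mul_cancel, map_one]; rfl
    have hfix : ∀ d, d * z = z * d → (P.act d).1 v = v := fun d hd => by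
      show (act d).1 v = v
      rw [show act d = _ from hact ⟨d, hCmem d hd⟩]; exact hfixA _
    have hle : φ.range ≤ evenStab c v := by
      rintro _ ⟨A, rfl⟩
      exact ⟨hfixA A, heven A⟩
    have hrange : φ.range = evenStab c v := Subgroup.eq_of_le_of_card_ge hle (by
      rw [← Nat.card_congr (MonoidHom.ofInjective hφinj).toEquiv, sp6_card]
      exact card_evenStab_le c hv)
    have himg : ∀ g : oG (qH c), g.1 v = v → dsign g = 1 → ∃ d, d * z = z * d ∧ P.act d = g := fun g h1 h2 => by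
      obtain ⟨A, rfl⟩ : g ∈ φ.range := hrange ▸ (⟨h1, h2⟩ : g ∈ evenStab c v)
      obtain ⟨d, rfl⟩ := hmk A
      exact ⟨d, Subgroup.mem_centralizer_singleton_iff.1 d.2, hact d⟩
    obtain ⟨q, hq, hqv⟩ := P.pr_surj v
    have hqq : q * q = z := by rw [P.pr_sq q hq, hqv, hv, pz, if_neg one_ne_zero]
    have hR : Red z q :=
      { sett := hset
        card := hcard'
        weak := fun g hg => P.weak_of_fixed hv himg hfix hg
        mem := hq
        sq := hqq
        nrm := fun d hd => by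
          have h1 : P.pr (d * q * d⁻¹ * q⁻¹) = 0 := by
            rw [P.pr_mul _ (P.nrm hd hq) _ (inv_mem hq), P.pr_inv hq, P.act_spec d hd q hq, hqv, hfix d hd,
              w_add_self]
          rcases P.pr_ker _ (mul_mem (P.nrm hd hq) (inv_mem hq)) h1 with h | h
          · exact Or.inl (mul_inv_eq_one.1 h)
          · refine Or.inr ((mul_inv_eq_iff_eq_mul.1 h).trans ?_)
            rw [← hqq, mul_assoc, eq_comm, inv_eq_iff_mul_eq_one, ← mul_assoc, ← mul_assoc, mul_assoc (q * q),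
              hqq, hset.sq_one]
        even := fun d hd => by
          obtain ⟨k, hk⟩ := (range_ne_two finrank_HV3 (P.act_even d hd)).2
          exact ⟨k, by rw [show kf _ d = kf P.sett d from rfl, card_kf P hd, hk, pow_succ, mul_comm]⟩ }
    have hiso : IsIsolatedInvolution z := ⟨hz, fun g hg => hR.isolated hg.symm.eq⟩
    have h := Fi24Cent.centralizer_sup_oddCore hiso
    rw [hO, sup_bot_eq] at h
    have htZ : z ∈ Subgroup.center G := Subgroup.mem_center_iff.2 fun g =>
      Subgroup.mem_centralizer_singleton_iff.1 (h ▸ Subgroup.mem_top g)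
    rw [hZ, Subgroup.mem_bot] at htZ
    exact hset.ne_one htZ
  · -- the spin representation
    have hr' : ∀ x, qP 4 (r.symm x) = qH c x := fun x => by rw [← hr, LinearEquiv.apply_symm_apply]
    let ψ : Sp6 →* O := (oCongr r.symm hr').toMonoidHom.comp φ
    have hψ : ∀ (A : Sp6) (x : V), (ψ A).1 x = r.symm ((φ A).1 (r x)) := fun A x => rfl
    let actV : G → O := fun d => oCongr r.symm hr' (act d)
    have hactV : ∀ d : ↥(Cz z), actV (d : G) = ψ (mk d) := fun d => by
      show oCongr r.symm hr' (act (d : G)) = _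
      rw [hact]; rfl
    let P' : Pre z (qP 4) :=
      { sett := hset
        card := hcard'
        sp_card := by simp [Nat.card_fun, Nat.card_zmod]
        nondeg := nondegP4
        pr := fun a => r.symm (pr a)
        pr_mul := fun a ha b hb => by rw [show pr (a * b) = _ from P.pr_mul a ha b hb, map_add]
        pr_ker := fun a ha h => P.pr_ker a ha (r.symm.map_eq_zero_iff.1 h)
        pr_z := by rw [show pr z = _ from P.pr_z, map_zero]
        pr_surj := fun v => by
          obtain ⟨a, ha, h⟩ := P.pr_surj (r v)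
          exact ⟨a, ha, by rw [show pr a = _ from h, LinearEquiv.symm_apply_apply]⟩
        pr_sq := fun a ha => by rw [hr']; exact P.pr_sq a ha
        act := actV
        act_spec := fun d hd a ha => by
          show _ = r.symm ((act d).1 (r (r.symm (pr a))))
          rw [LinearEquiv.apply_symm_apply]
          exact congrArg r.symm (P.act_spec d hd a ha)
        act_even := fun d hd => by
          rw [show actV d = _ from hactV ⟨d, hCmem d hd⟩]; exact dsign_sp nondegP4 finrank_V ψ _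
        act_ker := fun d hd h => P.act_ker d hd ((MulEquiv.map_eq_one_iff _).1 h) }
    let T : TData :=
      { t := fun a => ψ (tvS a)
        spec := fun a ha x => by
          rw [hψ, show (φ (tvS a)).1 (r (dc x.val)) = _ from hspec a ha x, LinearEquiv.symm_apply_apply]
        sq := fun a => by rw [← map_mul, tvS_sq, map_one]
        rel := fun a b => by rw [← map_mul, ← map_mul, tvS_rel] }
    have hcz : ∀ d : ↥(Cz z), (d : G) * z = z * (d : G) := fun d => Subgroup.mem_centralizer_singleton_iff.1 d.2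
    have hweak : ∀ g : G, g * z * g⁻¹ ∈ oc z → g * z * g⁻¹ = z := fun g hg => by
      refine weak_of_spin P' T (fun w _ => ?_) (fun d hd a ha => ?_) hg
      · obtain ⟨d, hd⟩ := hmk (w.map tvS).prod
        exact ⟨d, hcz d, by rw [show P'.act d = _ from hactV d, hd, map_list_prod, List.map_map]; rfl⟩
      · obtain ⟨b, hb⟩ := cv_surj ((mk ⟨d, hCmem d hd⟩).1.mulVec (cv a.val))
        refine ⟨b, fun h => ?_, ?_⟩
        · subst h
          have h2 := tvS_conj _ hb.symm
          rw [tvS_zero, conj_eq_one_iff] at h2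
          exact ha (tvS_inj (h2.trans tvS_zero.symm))
        · rw [show P'.act d = _ from hactV ⟨d, hCmem d hd⟩]
          show ψ _ * ψ (tvS a) * (ψ _)⁻¹ = ψ (tvS b)
          rw [← map_inv, ← map_mul, ← map_mul, tvS_conj _ hb.symm]
    have hmem : ∀ A : Sp6, ψ A ∈ sp6 := by
      refine sp_induction ?_ (fun a ha => ?_) (fun A B hA hB => ?_) (fun A hA => ?_)
      · rw [map_one]; exact one_mem _
      · exact Subgroup.subset_closure ⟨a, fun h => ha (Fin.ext h), fun x => T.spec a ha x⟩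
      · rw [map_mul]; exact mul_mem hA hB
      · rw [map_inv]; exact inv_mem hA
    have hsurj : ∀ o ∈ sp6, o ∈ ψ.range := by
      intro o ho
      refine (Subgroup.closure_le _).2 ?_ ho
      rintro o' ⟨a, ha, hspec'⟩
      refine ⟨tvS a, ext_oG fun x => ?_⟩
      obtain ⟨i, rfl⟩ := dc_surj x
      rw [hspec', show (ψ (tvS a)).1 (dc i.val) = _ from T.spec a (fun h => ha (by rw [h]; rfl)) i]
    refine ⟨{
      sett := hset
      pr := P'.pr
      pr_mul := P'.pr_mul
      pr_ker := P'.pr_ker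
      pr_z := P'.pr_z
      pr_surj := P'.pr_surj
      pr_sq := fun a ha => P'.pr_sq a ha
      act := actV
      act_spec := P'.act_spec
      act_even := P'.act_even
      act_ker := P'.act_ker
      weak := hweak
      act_mem := fun d hd => by rw [show actV d = _ from hactV ⟨d, hCmem d hd⟩]; exact hmem _
      act_surj := fun o ho => by
        obtain ⟨A, rfl⟩ := hsurj o ho
        obtain ⟨d, rfl⟩ := hmk A
        exact ⟨d, hcz d, hactV d⟩
      cent_card := ?_ }⟩
    show Nat.card ↥(Cz z) = _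
    rw [Subgroup.card_eq_card_quotient_mul_card_subgroup Q, Nat.card_congr e.toEquiv, sp6_card, hcard]
    norm_num

end Cfsg.Agent.CoTwoType
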