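import Cfsg.Agent.CoTwoType.Clifford

/-!
Either the three anticommutators of a frame are trivial (the spin case), or a non-singular vector is
killed by every nilpotent part.
-/

set_option autoImplicit false

open QuadraticMap Cfsg.Agent.Classical.Quad

namespace Cfsg.Agent.CoTwoType

namespace TRep

variable {V : Type*} [AddCommGroup V] [Module (ZMod 2) V] [Finite V]

/-- A pair of nilpotent operators with anticommutator one splits the space. -/
theorem double (X : Submodule (ZMod 2) V) (A B : Module.End (ZMod 2) V) (hA : ∀ x ∈ X, A x ∈ X)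
    (hB : ∀ x ∈ X, B x ∈ X) (hA2 : A * A = 0) (hAB : ∀ x ∈ X, A (B x) + B (A x) = x) :
    Nat.card ↥X = Nat.card ↥(X ⊓ LinearMap.ker A) * Nat.card ↥(X ⊓ LinearMap.ker A) := by
  have hA0 : ∀ x, A (A x) = 0 := fun x => LinearMap.congr_fun hA2 x
  have hk : ∀ x : ↥X, A x.1 ∈ X ⊓ LinearMap.ker A := fun x => ⟨hA _ x.2, LinearMap.mem_ker.2 (hA0 _)⟩
  have hl : ∀ x : ↥X, x.1 + B (A x.1) ∈ X ⊓ LinearMap.ker A := fun x => by
    refine ⟨X.add_mem x.2 (hB _ (hA _ x.2)), LinearMap.mem_ker.2 ?_⟩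
    have h := hAB _ (hA _ x.2)
    rw [hA0, map_zero, add_zero] at h
    rw [map_add, h, ZModModule.add_self]
  rw [← Nat.card_prod]
  refine Nat.card_congr ⟨fun x => (⟨_, hl x⟩, ⟨_, hk x⟩),
    fun p => ⟨p.1.1 + B p.2.1, X.add_mem p.1.2.1 (hB _ p.2.2.1)⟩, fun x => ?_, fun p => ?_⟩
  · refine Subtype.ext ?_
    show x.1 + B (A x.1) + B (A x.1) = x.1
    rw [add_assoc, ZModModule.add_self, add_zero]
  · have h1 : A p.1.1 = 0 := p.1.2.2
    have h2 : A p.2.1 = 0 := p.2.2.2
    have h3 := hAB _ p.2.2.1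
    rw [h2, map_zero, add_zero] at h3
    refine Prod.ext (Subtype.ext ?_) (Subtype.ext ?_)
    · show p.1.1 + B p.2.1 + B (A (p.1.1 + B p.2.1)) = p.1.1
      rw [map_add, h1, h3, zero_add, add_assoc, ZModModule.add_self, add_zero]
    · show A (p.1.1 + B p.2.1) = p.2.1
      rw [map_add, h1, h3, zero_add]

theorem two_le_card {X : Submodule (ZMod 2) V} (h : X ≠ ⊥) : 2 ≤ Nat.card ↥X := by
  have := Submodule.nontrivial_iff_ne_bot.2 h
  exact Finite.one_lt_card

theorem two_or_more {X : Submodule (ZMod 2) V} (h : X ≠ ⊥) :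
    Nat.card ↥X = 2 ∨ 4 ≤ Nat.card ↥X := by
  have := two_le_card h
  have h2 : 2 ∣ Nat.card ↥X := by
    obtain ⟨x, hx, hx0⟩ := X.ne_bot_iff.1 h
    have ho : addOrderOf (⟨x, hx⟩ : ↥X) = 2 :=
      addOrderOf_eq_prime (by rw [two_nsmul]; exact Subtype.ext (ZModModule.add_self x))
        fun e => hx0 (congrArg Subtype.val e)
    have h := addOrderOf_dvd_natCard (⟨x, hx⟩ : ↥X)
    rwa [ho] at h
  omega

variable {Q : QuadraticForm (ZMod 2) V} (R : TRep Q) {a b : Fin 3 → Fin 64}

section frame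

variable (F : Frame a b)
include F

theorem sab (i : Fin 3) : s6 (a i).val (b i).val = true := by rw [F.ab, decide_eq_true rfl]

theorem sne {i j : Fin 3} (h : i ≠ j) : s6 (a i).val (b j).val = false := by rw [F.ab, decide_eq_false h]

theorem sne' {i j : Fin 3} (h : i ≠ j) : s6 (b i).val (a j).val = false := by
  rw [s6_comm]; exact sne F h.symm

/-- The anticommutators commute with the nilpotent parts of the frame. -/
theorem P_comm_a (i j : Fin 3) : R.N (a j) * R.P (a i) (b i) = R.P (a i) (b i) * R.N (a j) := by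
  by_cases h : j = i
  · subst h; exact R.P_comm_left _ _
  · exact R.P_comm_of (F.aa j i) (sne F h)

theorem P_comm_b (i j : Fin 3) : R.N (b j) * R.P (a i) (b i) = R.P (a i) (b i) * R.N (b j) := by
  by_cases h : j = i
  · subst h; exact R.P_comm_right _ _
  · exact R.P_comm_of (sne' F h) (F.bb j i)

theorem PP_comm (i j : Fin 3) :
    R.P (a j) (b j) * R.P (a i) (b i) = R.P (a i) (b i) * R.P (a j) (b j) := by
  set p := R.P (a i) (b i) with hp
  show (R.N (a j) * R.N (b j) + R.N (b j) * R.N (a j)) * p =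
    p * (R.N (a j) * R.N (b j) + R.N (b j) * R.N (a j))
  rw [add_mul, mul_add, mul_assoc, P_comm_b R F i j, ← mul_assoc, P_comm_a R F i j, mul_assoc,
    mul_assoc (R.N (b j)), P_comm_a R F i j, ← mul_assoc (R.N (b j)), P_comm_b R F i j, mul_assoc]

/-- A product of transvection images swapping two pairs. -/
theorem exists_swap (i j k : Fin 3) (hij : i ≠ j) (hki : k ≠ i) (hkj : k ≠ j) :
    ∃ g g' : Module.End (ZMod 2) V, g' * g = 1 ∧ g * g' = 1 ∧
      g * R.P (a i) (b i) * g' = R.P (a j) (b j) ∧ g * R.P (a j) (b j) * g' = R.P (a i) (b i) ∧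
      g * R.P (a k) (b k) * g' = R.P (a k) (b k) := by
  obtain ⟨h1, h2, h3, h4, h5, h6⟩ := F.swap i j k hij hki hkj
  set u := a i ^^^ a j
  set w := b i ^^^ b j
  refine ⟨R.T u * R.T w * R.T (u ^^^ w), R.T (u ^^^ w) * R.T w * R.T u, ?_, ?_, ?_, ?_, ?_⟩
  · calc _ = R.T (u ^^^ w) * (R.T w * (R.T u * R.T u) * R.T w) * R.T (u ^^^ w) := by noncomm_ring
      _ = 1 := by rw [T_sq, mul_one, T_sq, mul_one, T_sq]
  · calc _ = R.T u * (R.T w * (R.T (u ^^^ w) * R.T (u ^^^ w)) * R.T w) * R.T u := by noncomm_ring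
      _ = 1 := by rw [T_sq, mul_one, T_sq, mul_one, T_sq]
  all_goals
    have key : ∀ x y : Fin 64, R.T u * R.T w * R.T (u ^^^ w) * R.P x y *
        (R.T (u ^^^ w) * R.T w * R.T u) = R.P (tS u (tS w (tS (u ^^^ w) x))) (tS u (tS w (tS (u ^^^ w) y))) := by
      intro x y
      have one : ∀ c x y : Fin 64, R.T c * R.P x y * R.T c = R.P (tS c x) (tS c y) := fun c x y => by
        simp only [P, mul_add, add_mul, ← N_conj]
        congr 1 <;>
          simp only [mul_assoc] <;> rw [← mul_assoc (R.T c) (R.T c), T_sq, one_mul]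
      calc _ = R.T u * (R.T w * (R.T (u ^^^ w) * R.P x y * R.T (u ^^^ w)) * R.T w) * R.T u := by noncomm_ring
        _ = _ := by rw [one, one, one]
    rw [key]
    simp only [h1, h2, h3, h4, h5, h6]

/-- Equal pairs of anticommutators when they are all trivial on a product of two. -/
theorem range_card_eq {g g' p p' : Module.End (ZMod 2) V} (hg : g' * g = 1) (hg' : g * g' = 1)
    (h : g * p * g' = p') : Nat.card ↥(LinearMap.range p) = Nat.card ↥(LinearMap.range p') := by
  have h1 : ∀ x, g' (g x) = x := fun x => LinearMap.congr_fun hg x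
  have h2 : ∀ x, g (g' x) = x := fun x => LinearMap.congr_fun hg' x
  refine Nat.card_congr ⟨fun x => ⟨g x.1, ?_⟩, fun x => ⟨g' x.1, ?_⟩,
    fun x => Subtype.ext (h1 _), fun x => Subtype.ext (h2 _)⟩
  · obtain ⟨y, hy⟩ := x.2
    exact ⟨g y, by rw [← h, ← hy]; simp [h1]⟩
  · obtain ⟨y, hy⟩ := x.2
    exact ⟨g' y, by rw [← hy, ← h]; simp [h1]⟩

theorem mem_range_idem {E : Module.End (ZMod 2) V} (hE : E * E = E) {x : V} :
    x ∈ LinearMap.range E ↔ E x = x :=
  ⟨fun ⟨y, hy⟩ => by rw [← hy]; exact LinearMap.congr_fun hE y, fun h => ⟨x, h⟩⟩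

theorem stable {E A : Module.End (ZMod 2) V} (h : A * E = E * A) :
    ∀ x ∈ LinearMap.range E, A x ∈ LinearMap.range E := by
  rintro x ⟨y, rfl⟩
  exact ⟨A y, (LinearMap.congr_fun h y).symm⟩

/-- A non-zero product of two anticommutators has range of order at least 16, the product of three of
order at least 256. -/
theorem card_range_ge (i j : Fin 3) (hij : i ≠ j)
    (hE : R.P (a i) (b i) * R.P (a j) (b j) ≠ 0) :
    16 ≤ Nat.card ↥(LinearMap.range (R.P (a i) (b i) * R.P (a j) (b j))) ∧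
    ∀ k, k ≠ i → k ≠ j → R.P (a i) (b i) * R.P (a j) (b j) * R.P (a k) (b k) ≠ 0 →
      256 ≤ Nat.card ↥(LinearMap.range (R.P (a i) (b i) * R.P (a j) (b j) * R.P (a k) (b k))) := by
  set pi := R.P (a i) (b i) with hpi
  set pj := R.P (a j) (b j) with hpj
  have gen : ∀ E : Module.End (ZMod 2) V, E * E = E → (∀ l, R.N (a l) * E = E * R.N (a l)) →
      (∀ l, R.N (b l) * E = E * R.N (b l)) → ∀ l, R.P (a l) (b l) * E = E →
      ∀ Y : Submodule (ZMod 2) V, Y ≤ LinearMap.range E → (∀ x ∈ Y, R.N (a l) x ∈ Y) →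
        (∀ x ∈ Y, R.N (b l) x ∈ Y) →
        Nat.card ↥Y = Nat.card ↥(Y ⊓ LinearMap.ker (R.N (a l))) *
          Nat.card ↥(Y ⊓ LinearMap.ker (R.N (a l))) := by
    intro E hEE hca hcb l hl Y hY ha hb
    refine double Y _ _ ha hb (R.N_sq _) fun x hx => ?_
    have h := LinearMap.congr_fun hl x
    rw [Module.End.mul_apply, (mem_range_idem F hEE).1 (hY hx)] at h
    exact h
  have hci : ∀ l, R.N (a l) * pi = pi * R.N (a l) ∧ R.N (b l) * pi = pi * R.N (b l) :=
    fun l => ⟨P_comm_a R F i l, P_comm_b R F i l⟩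
  have hcj : ∀ l, R.N (a l) * pj = pj * R.N (a l) ∧ R.N (b l) * pj = pj * R.N (b l) :=
    fun l => ⟨P_comm_a R F j l, P_comm_b R F j l⟩
  have hc2 : ∀ {x p q : Module.End (ZMod 2) V}, x * p = p * x → x * q = q * x →
      x * (p * q) = p * q * x := fun {x p q} hp hq => by rw [← mul_assoc, hp, mul_assoc, hq, mul_assoc]
  have step : ∀ E : Module.End (ZMod 2) V, E * E = E → (∀ l, R.N (a l) * E = E * R.N (a l)) →
      (∀ l, R.N (b l) * E = E * R.N (b l)) → R.P (a i) (b i) * E = E → R.P (a j) (b j) * E = E →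
      ∃ Y : Submodule (ZMod 2) V, Y = LinearMap.range E ⊓ LinearMap.ker (R.N (a i)) ⊓ LinearMap.ker (R.N (a j)) ∧
        Nat.card ↥(LinearMap.range E) = (Nat.card ↥Y) ^ 4 := by
    intro E hEE hca hcb hi hj
    refine ⟨_, rfl, ?_⟩
    rw [gen E hEE hca hcb i hi _ le_rfl (stable F (hca i)) (stable F (hcb i))]
    rw [gen E hEE hca hcb j hj (LinearMap.range E ⊓ LinearMap.ker (R.N (a i))) inf_le_left]
    · ring
    · rintro x ⟨hx, hx'⟩
      refine ⟨stable F (hca j) x hx, LinearMap.mem_ker.2 ?_⟩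
      rw [← Module.End.mul_apply, R.N_comm (F.aa i j), Module.End.mul_apply, LinearMap.mem_ker.1 hx',
        map_zero]
    · rintro x ⟨hx, hx'⟩
      refine ⟨stable F (hcb j) x hx, LinearMap.mem_ker.2 ?_⟩
      rw [← Module.End.mul_apply, R.N_comm (sne F hij), Module.End.mul_apply, LinearMap.mem_ker.1 hx',
        map_zero]
  have hpp : pi * pj * (pi * pj) = pi * pj := by
    calc pi * pj * (pi * pj) = pi * (pj * pi) * pj := by noncomm_ring
      _ = (pi * pi) * (pj * pj) := by rw [hpi, hpj, PP_comm R F i j]; noncomm_ring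
      _ = pi * pj := by rw [hpi, hpj, R.P_idem (sab F i), R.P_idem (sab F j)]
  have hi' : pi * (pi * pj) = pi * pj := by rw [← mul_assoc, hpi, R.P_idem (sab F i)]
  have hj' : pj * (pi * pj) = pi * pj := by
    rw [← mul_assoc, hpi, hpj, PP_comm R F i j, mul_assoc, R.P_idem (sab F j)]
  refine ⟨?_, fun k hki hkj hE3 => ?_⟩
  · obtain ⟨Y, -, hcard⟩ := step _ hpp (fun l => hc2 (hci l).1 (hcj l).1)
      (fun l => hc2 (hci l).2 (hcj l).2) hi' hj'
    rw [hcard]
    rcases Nat.lt_or_ge (Nat.card ↥Y) 2 with hlt | hge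
    · exfalso
      have hne : LinearMap.range (pi * pj) ≠ ⊥ := fun e => hE (LinearMap.range_eq_bot.1 e)
      have := two_le_card hne
      rw [hcard] at this
      interval_cases (Nat.card ↥Y) <;> simp at this
    · exact le_trans (by norm_num) (Nat.pow_le_pow_left hge 4)
  · set pk := R.P (a k) (b k) with hpk
    set E := pi * pj * pk
    have hkij : pk * (pi * pj) = pi * pj * pk := by
      rw [hpi, hpj, hpk, ← mul_assoc, PP_comm R F i k, mul_assoc, PP_comm R F j k, ← mul_assoc]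
    have hEE : E * E = E := by
      calc E * E = pi * pj * (pk * (pi * pj)) * pk := by noncomm_ring
        _ = (pi * pj * (pi * pj)) * (pk * pk) := by rw [hkij]; noncomm_ring
        _ = E := by rw [hpp, hpk, R.P_idem (sab F k)]
    have hca : ∀ l, R.N (a l) * E = E * R.N (a l) := fun l =>
      hc2 (hc2 (hci l).1 (hcj l).1) (P_comm_a R F k l)
    have hcb : ∀ l, R.N (b l) * E = E * R.N (b l) := fun l =>
      hc2 (hc2 (hci l).2 (hcj l).2) (P_comm_b R F k l)
    have hkE : pk * E = E := by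
      rw [← mul_assoc, hkij, mul_assoc, hpk, R.P_idem (sab F k)]
    obtain ⟨Y, hY, hcard⟩ := step E hEE hca hcb (by rw [← mul_assoc, hi']) (by rw [← mul_assoc, hj'])
    have hY2 := gen E hEE hca hcb k hkE Y (hY ▸ inf_le_left.trans inf_le_left) ?_ ?_
    · rw [hcard, hY2]
      rcases Nat.lt_or_ge (Nat.card ↥(Y ⊓ LinearMap.ker (R.N (a k)))) 2 with hlt | hge
      · exfalso
        have hne : LinearMap.range E ≠ ⊥ := fun e => hE3 (LinearMap.range_eq_bot.1 e)
        have := two_le_card hne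
        rw [hcard, hY2] at this
        interval_cases (Nat.card ↥(Y ⊓ LinearMap.ker (R.N (a k)))) <;> simp at this
      · calc (256 : ℕ) = (2 * 2) ^ 4 := by norm_num
          _ ≤ _ := Nat.pow_le_pow_left (Nat.mul_le_mul hge hge) 4
    · subst hY
      rintro x ⟨⟨hx, hx1⟩, hx2⟩
      refine ⟨⟨stable F (hca k) x hx, LinearMap.mem_ker.2 ?_⟩, LinearMap.mem_ker.2 ?_⟩ <;>
        rw [← Module.End.mul_apply]
      · rw [R.N_comm (F.aa i k), Module.End.mul_apply, LinearMap.mem_ker.1 hx1, map_zero]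
      · rw [R.N_comm (F.aa j k), Module.End.mul_apply, LinearMap.mem_ker.1 hx2, map_zero]
    · subst hY
      rintro x ⟨⟨hx, hx1⟩, hx2⟩
      refine ⟨⟨stable F (hcb k) x hx, LinearMap.mem_ker.2 ?_⟩, LinearMap.mem_ker.2 ?_⟩ <;>
        rw [← Module.End.mul_apply]
      · rw [R.N_comm (sne F (Ne.symm hki)), Module.End.mul_apply, LinearMap.mem_ker.1 hx1, map_zero]
      · rw [R.N_comm (sne F (Ne.symm hkj)), Module.End.mul_apply, LinearMap.mem_ker.1 hx2, map_zero]

/-- The spin case. -/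
def AllOne : Prop := ∀ i, R.P (a i) (b i) = 1

/-- The vectors in the range of one nilpotent part killed by the anticommutator. -/
def fixVec (i : Fin 3) : Set V := {y | (∃ w, R.N (a i) w = y) ∧ R.P (a i) (b i) y = 0}

/-- The dichotomy for a frame. -/
theorem frame_cases : (∀ i, R.P (a i) (b i) = 1) ∨
    ((∀ i j, i ≠ j → R.P (a i) (b i) * R.P (a j) (b j) = 0) ∧ ∃ v, v ≠ 0 ∧ Q v = 1 ∧
      ∀ i, R.N (a i) v = 0 ∧ R.N (b i) v = 0 ∧ R.fixVec (a := a) (b := b) i = {0, v}) := by
  classical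
  set p : Fin 3 → Module.End (ZMod 2) V := fun i => R.P (a i) (b i) with hp
  have hid : ∀ i, p i * p i = p i := fun i => R.P_idem (sab F i)
  have hne : ∀ i, p i ≠ 0 := fun i => R.P_ne_zero (sab F i)
  have hcm : ∀ i j, p i * p j = p j * p i := fun i j => (PP_comm R F i j).symm
  have third : ∀ i j : Fin 3, i ≠ j → ∃ k, k ≠ i ∧ k ≠ j := by decide
  have cases3 : ∀ i j k x : Fin 3, i ≠ j → k ≠ i → k ≠ j → x = i ∨ x = j ∨ x = k := by decide
  by_cases h3 : ∃ i j k, i ≠ j ∧ k ≠ i ∧ k ≠ j ∧ p i * p j * p k ≠ 0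
  · obtain ⟨i, j, k, hij, hki, hkj, h⟩ := h3
    left
    have h2 : p i * p j ≠ 0 := fun e => h (by rw [e, zero_mul])
    have h256 := (card_range_ge R F i j hij h2).2 k hki hkj h
    have htop : LinearMap.range (p i * p j * p k) = ⊤ := by
      refine SetLike.coe_injective (Set.eq_of_subset_of_ncard_le (Set.subset_univ _) ?_ (Set.toFinite _))
      rw [show ((⊤ : Submodule (ZMod 2) V) : Set V) = Set.univ from rfl, Set.ncard_univ, ← Nat.card_coe_set_eq, R.card]
      exact h256
    have hone : ∀ x y, p x * y = y → LinearMap.range y = ⊤ → p x = 1 := fun x y hxy ht => by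
      refine LinearMap.ext fun v => ?_
      obtain ⟨w, rfl⟩ := LinearMap.range_eq_top.1 ht v
      exact LinearMap.congr_fun hxy w
    intro x
    rcases cases3 i j k x hij hki hkj with rfl | rfl | rfl
    · exact hone x _ (by rw [← mul_assoc, ← mul_assoc, hid]) htop
    · exact hone x _ (by rw [← mul_assoc, ← mul_assoc, hcm x i, mul_assoc (p i), hid]) htop
    · exact hone x _ (by
        rw [← mul_assoc, ← mul_assoc, hcm x i, mul_assoc (p i), hcm x j, ← mul_assoc,
          mul_assoc (p i * p j), hid]) htop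
  push Not at h3
  right
  have hswap : ∀ i j, i ≠ j → Nat.card ↥(LinearMap.range (p i)) = Nat.card ↥(LinearMap.range (p j)) := by
    intro i j hij
    obtain ⟨k, hki, hkj⟩ := third i j hij
    obtain ⟨g, g', h1, h2, h3', -, -⟩ := exists_swap R F i j k hij hki hkj
    exact range_card_eq F h1 h2 h3'
  have hzero : ∀ i j, i ≠ j → p i * p j = 0 := by
    intro i j hij
    by_contra hnz
    obtain ⟨k, hki, hkj⟩ := third i j hij
    -- every product of two is nonzero
    have hsw : ∀ x y z : Fin 3, x ≠ y → z ≠ x → z ≠ y → p x * p y ≠ 0 → p z * p y ≠ 0 := by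
      intro x y z hxy hzx hzy h0 e
      obtain ⟨g, g', h1, h2, h4, -, h6⟩ := exists_swap R F x z y hzx.symm hxy.symm hzy.symm
      refine h0 ?_
      have e' : g * (p x * p y) * g' = 0 := by
        calc g * (p x * p y) * g' = g * p x * (g' * g) * p y * g' := by rw [h1]; noncomm_ring
          _ = (g * p x * g') * (g * p y * g') := by noncomm_ring
          _ = p z * p y := by simp only [hp]; rw [h4, h6]
          _ = 0 := e
      calc p x * p y = (g' * g) * (p x * p y) * (g' * g) := by rw [h1, one_mul, mul_one]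
        _ = g' * (g * (p x * p y) * g') * g := by noncomm_ring
        _ = 0 := by rw [e', mul_zero, zero_mul]
    have hkj' : p k * p j ≠ 0 := hsw i j k hij hki hkj hnz
    have hki' : p k * p i ≠ 0 := hsw j i k hij.symm hkj hki (by rw [hcm]; exact hnz)
    have c1 := (card_range_ge R F i j hij hnz).1
    have c2 := (card_range_ge R F k j hkj hkj').1
    have c3 := (card_range_ge R F k i hki hki').1
    have hijk : p i * p j * p k = 0 := h3 i j k hij hki hkj
    have zz : p k * p j * p i = 0 := by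
      rw [hcm k j, mul_assoc, hcm k i, ← mul_assoc, hcm j i]; exact hijk
    have idem2 : ∀ x y, p x * p y * (p x * p y) = p x * p y := fun x y => by
      calc p x * p y * (p x * p y) = p x * (p y * p x) * p y := by noncomm_ring
        _ = (p x * p x) * (p y * p y) := by rw [hcm y x]; noncomm_ring
        _ = p x * p y := by rw [hid, hid]
    have key := Nat.card_le_card_of_injective
      (fun t : ↥(LinearMap.range (p i * p j)) × ↥(LinearMap.range (p k * p j)) ×
          ↥(LinearMap.range (p k * p i)) => t.1.1 + t.2.1.1 + t.2.2.1) ?_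
    · rw [Nat.card_prod, Nat.card_prod, R.card] at key
      nlinarith [Nat.mul_le_mul c2 c3]
    · have sep : ∀ (A B C : Module.End (ZMod 2) V), A * A = A → A * B = 0 → A * C = 0 →
          ∀ x ∈ LinearMap.range A, ∀ y ∈ LinearMap.range B, ∀ w ∈ LinearMap.range C,
            A (x + y + w) = x := by
        intro A B C hA hB hC x hx y hy w hw
        obtain ⟨y', rfl⟩ := hy
        obtain ⟨w', rfl⟩ := hw
        rw [map_add, map_add, ← Module.End.mul_apply A B, hB, ← Module.End.mul_apply A C, hC,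
          (mem_range_idem F hA).1 hx]
        simp
      rintro ⟨x, y, w⟩ ⟨x', y', w'⟩ e
      change x.1 + y.1 + w.1 = x'.1 + y'.1 + w'.1 at e
      have hxx : x.1 = x'.1 := by
        have a1 : p i * p j * (p k * p j) = 0 := by rw [← mul_assoc, hijk, zero_mul]
        have a2 : p i * p j * (p k * p i) = 0 := by rw [← mul_assoc, hijk, zero_mul]
        rw [← sep _ _ _ (idem2 i j) a1 a2 _ x.2 _ y.2 _ w.2, e, sep _ _ _ (idem2 i j) a1 a2 _ x'.2 _ y'.2 _ w'.2]
      have hyy : y.1 = y'.1 := by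
        have a1 : p k * p j * (p i * p j) = 0 := by rw [← mul_assoc, zz, zero_mul]
        have a2 : p k * p j * (p k * p i) = 0 := by
          rw [← mul_assoc, mul_assoc (p k * p j), hcm k i, ← mul_assoc, zz, zero_mul]
        rw [← sep _ _ _ (idem2 k j) a1 a2 _ y.2 _ x.2 _ w.2, show y.1 + x.1 + w.1 = x.1 + y.1 + w.1 by abel, e,
          show x'.1 + y'.1 + w'.1 = y'.1 + x'.1 + w'.1 by abel,
          sep _ _ _ (idem2 k j) a1 a2 _ y'.2 _ x'.2 _ w'.2]
      refine Prod.ext (Subtype.ext hxx) (Prod.ext (Subtype.ext hyy) (Subtype.ext ?_))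
      rw [hxx, hyy] at e
      exact add_left_cancel e
  refine ⟨hzero, ?_⟩
  set W0 := LinearMap.range (1 + (p 0 + p 1 + p 2)) with hW0
  have e0 : ∀ x, p x * (1 + (p 0 + p 1 + p 2)) = 0 := by
    intro x
    fin_cases x <;> simp only [mul_add, mul_one]
    · show p 0 + (p 0 * p 0 + p 0 * p 1 + p 0 * p 2) = 0
      rw [hid, hzero 0 1 (by decide), hzero 0 2 (by decide), add_zero, add_zero, op_add_self]
    · show p 1 + (p 1 * p 0 + p 1 * p 1 + p 1 * p 2) = 0
      rw [hid, hzero 1 0 (by decide), hzero 1 2 (by decide), zero_add, add_zero, op_add_self]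
    · show p 2 + (p 2 * p 0 + p 2 * p 1 + p 2 * p 2) = 0
      rw [hid, hzero 2 0 (by decide), hzero 2 1 (by decide), zero_add, zero_add, op_add_self]
  have hW0p : ∀ x, ∀ w ∈ W0, p x w = 0 := by
    rintro x w ⟨y, rfl⟩
    rw [← Module.End.mul_apply, e0 x]; rfl
  have hsum : ∀ w, w = (p 0 w + p 1 w + p 2 w) + (1 + (p 0 + p 1 + p 2) : Module.End (ZMod 2) V) w := by
    intro w
    simp only [LinearMap.add_apply, Module.End.one_apply]
    rw [add_comm w, ← add_assoc, add_self, zero_add]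
  have hdec : Nat.card V = Nat.card ↥(LinearMap.range (p 0)) * (Nat.card ↥(LinearMap.range (p 1)) *
      (Nat.card ↥(LinearMap.range (p 2)) * Nat.card ↥W0)) := by
    rw [← Nat.card_prod, ← Nat.card_prod, ← Nat.card_prod]
    have hp' : ∀ x y w, w ∈ LinearMap.range (p x) → p y w = if y = x then w else 0 := by
      rintro x y w ⟨u, rfl⟩
      rw [← Module.End.mul_apply]
      split_ifs with h
      · rw [h, hid]
      · rw [hzero y x h]; rfl
    refine Nat.card_congr ⟨fun w => (⟨p 0 w, w, rfl⟩, ⟨p 1 w, w, rfl⟩, ⟨p 2 w, w, rfl⟩, ⟨_, w, rfl⟩),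
      fun t => (t.1.1 + t.2.1.1 + t.2.2.1.1) + t.2.2.2.1, fun w => (hsum w).symm, fun t => ?_⟩
    obtain ⟨x, y, w, u⟩ := t
    have f : ∀ r, p r (x.1 + y.1 + w.1 + u.1) =
        (if r = 0 then x.1 else 0) + (if r = 1 then y.1 else 0) + (if r = 2 then w.1 else 0) := fun r => by
      rw [map_add, map_add, map_add, hp' 0 r _ x.2, hp' 1 r _ y.2, hp' 2 r _ w.2, hW0p r _ u.2, add_zero]
    refine Prod.ext (Subtype.ext ?_) (Prod.ext (Subtype.ext ?_) (Prod.ext (Subtype.ext ?_) (Subtype.ext ?_)))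
    · show p 0 _ = x.1; rw [f]; simp
    · show p 1 _ = y.1; rw [f]; simp
    · show p 2 _ = w.1; rw [f]; simp
    · show (1 + (p 0 + p 1 + p 2) : Module.End (ZMod 2) V) _ = u.1
      simp only [LinearMap.add_apply, Module.End.one_apply]
      rw [f, f, f]
      simp only [show (0 : Fin 3) ≠ 1 by decide, show (0 : Fin 3) ≠ 2 by decide, show (1 : Fin 3) ≠ 0 by decide,
        show (1 : Fin 3) ≠ 2 by decide, show (2 : Fin 3) ≠ 0 by decide, show (2 : Fin 3) ≠ 1 by decide,
        if_true, if_false, add_zero, zero_add]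
      rw [add_comm (x.1 + y.1 + w.1) u.1, add_assoc, add_self, add_zero]
  have hK : ∀ i, ∃ k, 2 ≤ k ∧ Nat.card ↥(LinearMap.range (p i)) = k * k ∧
      k = Nat.card ↥(LinearMap.range (p i) ⊓ LinearMap.ker (R.N (a i))) := fun i => by
    have hd := double (LinearMap.range (p i)) _ _ (stable F (P_comm_a R F i i)) (stable F (P_comm_b R F i i))
      (R.N_sq (a i)) fun x hx => by
        have h := (mem_range_idem F (hid i)).1 hx
        exact h
    refine ⟨_, ?_, hd, rfl⟩
    have := two_le_card fun e : LinearMap.range (p i) = ⊥ => hne i (LinearMap.range_eq_bot.1 e)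
    by_contra hlt
    rw [hd] at this
    have h1 : Nat.card ↥(LinearMap.range (p i) ⊓ LinearMap.ker (R.N (a i))) ≤ 1 := Nat.le_of_lt_succ (not_le.1 hlt)
    have h2 := Nat.mul_le_mul h1 h1
    omega
  have hX : ∀ i, Nat.card ↥(LinearMap.range (p i)) = 4 := by
    obtain ⟨k0, hk0, e00, rfl⟩ := hK 0
    have h1 := hswap 0 1 (by decide)
    have h2 := hswap 0 2 (by decide)
    rw [← h1, ← h2, R.card, e00] at hdec
    have hk4 : Nat.card ↥(LinearMap.range (p 0) ⊓ LinearMap.ker (R.N (a 0))) = 2 := by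
      rcases two_or_more (X := LinearMap.range (p 0) ⊓ LinearMap.ker (R.N (a 0))) (fun e => by
        rw [e] at hk0; simp at hk0) with h | h
      · exact h
      · exfalso
        have hw : 1 ≤ Nat.card ↥W0 := Nat.card_pos
        have := Nat.mul_le_mul (Nat.mul_le_mul h h) (Nat.mul_le_mul (Nat.mul_le_mul h h)
          (Nat.mul_le_mul (Nat.mul_le_mul h h) hw))
        omega
    intro i
    fin_cases i
    · show Nat.card ↥(LinearMap.range (p 0)) = 4; rw [e00, hk4]
    · show Nat.card ↥(LinearMap.range (p 1)) = 4; rw [← h1, e00, hk4]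
    · show Nat.card ↥(LinearMap.range (p 2)) = 4; rw [← h2, e00, hk4]
  have hW4 : Nat.card ↥W0 = 4 := by
    rw [R.card, hX, hX, hX] at hdec; omega
  have hline : ∀ i, Nat.card ↥(LinearMap.range (p i) ⊓ LinearMap.ker (R.N (a i))) = 2 := fun i => by
    obtain ⟨k, hk, e, rfl⟩ := hK i
    rw [hX] at e
    have := Nat.mul_le_mul hk hk
    rcases Nat.lt_or_ge 2 (Nat.card ↥(LinearMap.range (p i) ⊓ LinearMap.ker (R.N (a i)))) with h | h
    · have := Nat.mul_le_mul h h; omega
    · omega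
  have line_cases : ∀ {X : Submodule (ZMod 2) V}, Nat.card ↥X = 2 → ∀ {x y}, x ∈ X → y ∈ X → y ≠ 0 →
      x = 0 ∨ x = y := by
    intro X hX x y hx hy hy0
    obtain ⟨u, -, huniq⟩ := (Nat.card_eq_two_iff' (0 : ↥X)).1 hX
    by_cases hx0 : x = 0
    · exact Or.inl hx0
    · exact Or.inr (congrArg Subtype.val ((huniq ⟨x, hx⟩ fun e => hx0 (congrArg Subtype.val e)).trans
        (huniq ⟨y, hy⟩ fun e => hy0 (congrArg Subtype.val e)).symm))
  have nil_line : ∀ {X : Submodule (ZMod 2) V}, Nat.card ↥X = 2 → ∀ {A : Module.End (ZMod 2) V}, A * A = 0 →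
      (∀ x ∈ X, A x ∈ X) → ∀ x ∈ X, A x = 0 := by
    intro X hX A hA hAX x hx
    by_cases hx0 : x = 0
    · rw [hx0, map_zero]
    rcases line_cases hX (hAX x hx) hx hx0 with h | h
    · exact h
    · have h2 : A (A x) = 0 := LinearMap.congr_fun hA x
      rw [h, h] at h2
      exact absurd h2 hx0
  -- the operators of other pairs vanish on each range
  have hother : ∀ i j, j ≠ i → ∀ A, A * A = 0 → A * p i = p i * A →
      A * R.N (a i) = R.N (a i) * A → A * R.N (b i) = R.N (b i) * A →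
      ∀ x ∈ LinearMap.range (p i), A x = 0 := by
    intro i _ _ A hA hAp hAa hAb x hx
    have hx' := (mem_range_idem F (hid i)).1 hx
    have hk0 : ∀ u ∈ LinearMap.range (p i) ⊓ LinearMap.ker (R.N (a i)), A u = 0 :=
      nil_line (hline i) hA fun u hu => ⟨stable F hAp u hu.1, LinearMap.mem_ker.2 (by
        rw [← Module.End.mul_apply, ← hAa, Module.End.mul_apply, LinearMap.mem_ker.1 hu.2, map_zero])⟩
    have hsplit : x = (x + R.N (b i) (R.N (a i) x)) + R.N (b i) (R.N (a i) x) := by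
      rw [add_assoc, add_self, add_zero]
    have hAx : R.N (a i) x ∈ LinearMap.range (p i) := stable F (P_comm_a R F i i) x hx
    have hA0 : R.N (a i) (R.N (a i) x) = 0 := LinearMap.congr_fun (R.N_sq _) x
    have h1 : R.N (a i) (R.N (b i) (R.N (a i) x)) = R.N (a i) x := by
      have := (mem_range_idem F (hid i)).1 hAx
      change R.N (a i) (R.N (b i) (R.N (a i) x)) + R.N (b i) (R.N (a i) (R.N (a i) x)) = _ at this
      rwa [hA0, map_zero, add_zero] at this
    rw [hsplit, map_add, hk0 (x + R.N (b i) (R.N (a i) x))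
      ⟨(LinearMap.range (p i)).add_mem hx (stable F (P_comm_b R F i i) _ hAx),
        LinearMap.mem_ker.2 (by rw [map_add, h1, add_self])⟩,
      zero_add, ← Module.End.mul_apply A, hAb, Module.End.mul_apply, hk0 _ ⟨hAx, LinearMap.mem_ker.2 hA0⟩,
      map_zero]
  have hab0 : ∀ i, ∀ w ∈ W0, R.N (a i) w = R.N (b i) w := fun i w hw => by
    have hbr := LinearMap.congr_fun (R.braid (sab F i)) w
    have hc : ∀ u ∈ W0, R.N (a i) (R.N (b i) u) = R.N (b i) (R.N (a i) u) := fun u hu => by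
      have := hW0p i u hu
      change R.N (a i) (R.N (b i) u) + R.N (b i) (R.N (a i) u) = 0 at this
      exact (add_eq_zero_iff_eq_neg.1 this).trans (ZModModule.neg_eq_self _)
    have hst : ∀ c, (∀ x, R.N c * p x = p x * R.N c) → R.N c w ∈ W0 := fun c hc' =>
      stable F (by simp only [mul_add, add_mul, mul_one, one_mul, hc']) w hw
    change R.N (a i) (R.N (b i) (R.N (a i) w)) + R.N (a i) w =
      R.N (b i) (R.N (a i) (R.N (b i) w)) + R.N (b i) w at hbr
    rw [hc _ (hst _ fun x => P_comm_a R F x i), ← Module.End.mul_apply (R.N (a i)) (R.N (a i)), R.N_sq,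
      ← hc _ (hst _ fun x => P_comm_b R F x i), ← Module.End.mul_apply (R.N (b i)) (R.N (b i)) w, R.N_sq] at hbr
    simpa using hbr
  have hNW : ∀ i, ∀ w ∈ W0, R.N (a i) w ∈ W0 := fun i =>
    stable F (by simp only [mul_add, add_mul, mul_one, one_mul]; rw [P_comm_a R F 0 i, P_comm_a R F 1 i, P_comm_a R F 2 i])
  have hsplitN : ∀ i w, R.N (a i) w = R.N (a i) (p i w) +
      R.N (a i) ((1 + (p 0 + p 1 + p 2) : Module.End (ZMod 2) V) w) := by
    intro i w
    have hz : ∀ j, j ≠ i → R.N (a i) (p j w) = 0 := fun j hj =>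
      hother j i hj.symm _ (R.N_sq _) (P_comm_a R F j i) (R.N_comm (F.aa i j))
        (R.N_comm (sne F hj.symm)) _ ⟨w, rfl⟩
    conv_lhs => rw [hsum w]
    rw [map_add, map_add, map_add]
    rcases (by decide : ∀ i : Fin 3, i = 0 ∨ i = 1 ∨ i = 2) i with rfl | rfl | rfl
    · rw [hz 1 (by decide), hz 2 (by decide), add_zero, add_zero]
    · rw [hz 0 (by decide), hz 2 (by decide), zero_add, add_zero]
    · rw [hz 0 (by decide), hz 1 (by decide), zero_add, zero_add]
  have hWne : ∀ i, ∃ w ∈ W0, R.N (a i) w ≠ 0 := by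
    intro i
    by_contra hall
    push Not at hall
    refine R.par (a i) ?_
    show Nat.card ↥(LinearMap.range (R.N (a i))) = 2
    refine (Nat.card_congr (Equiv.subtypeEquivRight fun y => ⟨?_, ?_⟩)).trans (hline i)
    · rintro ⟨w, rfl⟩
      rw [hsplitN i w, hall _ ⟨w, rfl⟩, add_zero]
      exact ⟨stable F (P_comm_a R F i i) _ ⟨w, rfl⟩, LinearMap.mem_ker.2 (LinearMap.congr_fun (R.N_sq _) _)⟩
    · rintro ⟨hy, hy0⟩
      refine ⟨R.N (b i) y, ?_⟩
      have h := (mem_range_idem F (hid i)).1 hy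
      change R.N (a i) (R.N (b i) y) + R.N (b i) (R.N (a i) y) = y at h
      rwa [LinearMap.mem_ker.1 hy0, map_zero, add_zero] at h
  have hK0 : ∀ i, Nat.card ↥(W0 ⊓ LinearMap.ker (R.N (a i))) = 2 := by
    intro i
    obtain ⟨w, hw, hw0⟩ := hWne i
    have hlt : Nat.card ↥(W0 ⊓ LinearMap.ker (R.N (a i))) < 4 := by
      rw [← hW4]
      refine lt_of_le_of_ne (Nat.card_mono (Set.toFinite _) inf_le_left) fun e => hw0 ?_
      have := Set.eq_of_subset_of_ncard_le (s := ((W0 ⊓ LinearMap.ker (R.N (a i)) : Submodule (ZMod 2) V) : Set V))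
        (t := (W0 : Set V)) inf_le_left (by rw [← Nat.card_coe_set_eq, ← Nat.card_coe_set_eq]; exact e.ge) (Set.toFinite _)
      exact LinearMap.mem_ker.1 (this.ge hw).2
    rcases two_or_more (X := W0 ⊓ LinearMap.ker (R.N (a i))) (fun e => hw0 (by
      have : R.N (a i) w ∈ W0 ⊓ LinearMap.ker (R.N (a i)) :=
        ⟨hNW i w hw, LinearMap.mem_ker.2 (LinearMap.congr_fun (R.N_sq _) w)⟩
      rw [e] at this; exact this)) with h | h
    · exact h
    · omega
  obtain ⟨w₀, hw₀, hv0⟩ := hWne 0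
  set v := R.N (a 0) w₀
  have hvW : v ∈ W0 := hNW 0 w₀ hw₀
  have hva : ∀ i, R.N (a i) v = 0 := fun i =>
    nil_line (hK0 0) (R.N_sq _) (fun x hx => ⟨hNW i x hx.1, LinearMap.mem_ker.2 (by
      rw [← Module.End.mul_apply, R.N_comm (F.aa 0 i), Module.End.mul_apply, LinearMap.mem_ker.1 hx.2, map_zero])⟩)
      v ⟨hvW, LinearMap.mem_ker.2 (LinearMap.congr_fun (R.N_sq _) w₀)⟩
  have hfx : ∀ i, R.fixVec (a := a) (b := b) i = {0, v} := by
    intro i
    ext y
    constructor
    · rintro ⟨⟨w, rfl⟩, hy⟩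
      have hz : R.N (a i) (p i w) = 0 := by
        have h1 : p i (R.N (a i) w) = R.N (a i) (p i w) := (LinearMap.congr_fun (P_comm_a R F i i) w).symm
        rw [← h1]; exact hy
      rw [hsplitN i w, hz, zero_add]
      exact line_cases (hK0 i) ⟨hNW i _ ⟨w, rfl⟩, LinearMap.mem_ker.2 (LinearMap.congr_fun (R.N_sq _) _)⟩
        ⟨hvW, LinearMap.mem_ker.2 (hva i)⟩ hv0
    · rintro (rfl | rfl)
      · exact ⟨⟨0, map_zero _⟩, map_zero _⟩
      · obtain ⟨w, hw, hwne⟩ := hWne i
        exact ⟨⟨w, ((line_cases (hK0 i) ⟨hNW i w hw, LinearMap.mem_ker.2 (LinearMap.congr_fun (R.N_sq _) w)⟩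
          ⟨hvW, LinearMap.mem_ker.2 (hva i)⟩ hv0).resolve_left hwne)⟩, hW0p i v hvW⟩
  refine ⟨v, hv0, ?_, fun i => ⟨hva i, (hab0 i v hvW) ▸ hva i, hfx i⟩⟩
  refine ((by decide : ∀ x : ZMod 2, x = 0 ∨ x = 1) (Q v)).resolve_left fun hq => hv0 (R.eq_zero_of_perp fun y => ?_)
  -- v is orthogonal to everything
  have hperpP : ∀ i u, polar Q v (p i u) = 0 := fun i u => by
    have e : polar Q v (p i u) = polar Q (p i v) u := by
      show polar Q v (R.N (a i) (R.N (b i) u) + R.N (b i) (R.N (a i) u)) =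
        polar Q (R.N (a i) (R.N (b i) v) + R.N (b i) (R.N (a i) v)) u
      have adj : ∀ (A B : Fin 64) (x : V), polar Q x (R.N A (R.N B u)) = polar Q (R.N B (R.N A x)) u :=
        fun A B x => by rw [R.N_adjoint, R.N_adjoint]
      rw [polar_add_right, polar_add_left, adj, adj, add_comm]
    rw [e, hW0p i v hvW]; exact QuadraticMap.polar_zero_left Q u
  have hvw : polar Q v w₀ = 0 := by
    rw [polar_comm, ← R.q_N (a 0) w₀]; exact hq
  set u := (1 + (p 0 + p 1 + p 2) : Module.End (ZMod 2) V) y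
  have hu : u ∈ W0 := ⟨y, rfl⟩
  have hvv : polar Q v v = 0 := by
    show polar Q (R.N (a 0) w₀) v = 0
    rw [R.N_adjoint, hva 0, polar_zero_right]
  have hu' : polar Q v u = 0 := by
    by_cases hu0 : R.N (a 0) u = 0
    · rcases line_cases (hK0 0) ⟨hu, LinearMap.mem_ker.2 hu0⟩ ⟨hvW, LinearMap.mem_ker.2 (hva 0)⟩ hv0 with e | e <;>
        rw [e]
      exacts [polar_zero_right Q v, hvv]
    · have h1 : R.N (a 0) u = v := (line_cases (hK0 0) ⟨hNW 0 u hu, LinearMap.mem_ker.2 (LinearMap.congr_fun (R.N_sq _) u)⟩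
        ⟨hvW, LinearMap.mem_ker.2 (hva 0)⟩ hv0).resolve_left hu0
      have hk : R.N (a 0) (u + w₀) = 0 := by rw [map_add, h1, add_self]
      have e2 : polar Q v (u + w₀) = 0 := by
        rcases line_cases (hK0 0) ⟨W0.add_mem hu hw₀, LinearMap.mem_ker.2 hk⟩ ⟨hvW, LinearMap.mem_ker.2 (hva 0)⟩ hv0 with e | e <;>
          rw [e]
        exacts [polar_zero_right Q v, hvv]
      rwa [polar_add_right, hvw, add_zero] at e2
  rw [hsum y, polar_add_right, polar_add_right, polar_add_right, hperpP, hperpP, hperpP, hu']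
  simp

end frame

end TRep

end Cfsg.Agent.CoTwoType
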